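-- The possible values of the five characters in the principal 5-block of a group of order 2520.
--
-- * `invCheck`: pairs `(k, |C(t)|)` for an involution `t`
-- * `rowBool`, `threeCheck`: values on an element of order three commuting with a four group
import Cfsg.Agent.Lib.SmallOrders.BlockDegrees.ValueCheck

set_option autoImplicit false

namespace Cfsg.Agent.SmallOrders.S2520

open BlockDegrees

/-- one entry from each list -/
def choices {α : Type*} : List (List α) → List (List α)
  | [] => [[]]
  | l :: ls => l.flatMap fun a => (choices ls).map (a :: ·)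

/-- values on an involution with square below `B` -/
def uCand (B : ℕ) (x : ℤ) : List ℤ := (vCand x).filter fun u => decide (u.natAbs ^ 2 < B)

/-- the degree solutions -/
def sols : List (List ℤ) := degSols 2520 5 4 1 2 (degCand 2520 5 2 51) 3 1 1

/-- `2520 Σ u v / x` over the block -/
def pairSum (y : ℤ) (l us vs : List ℤ) : ℤ :=
  2520 + ((l.zip (us.zip vs)).map fun q => q.2.1 * q.2.2 * (2520 / q.1)).sum -
    (1 + us.sum) * (1 + vs.sum) * (2520 / y)

/-- the square sum of the values -/
def sqSum (us : List ℤ) : ℕ := 1 + (us.map fun u => u.natAbs ^ 2).sum + (1 + us.sum).natAbs ^ 2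

/-- the conditions on the exceptional member -/
def excBool (y : ℤ) (us : List ℤ) : Bool :=
  decide ((1 + us.sum).natAbs < y.natAbs) && decide ((y - (1 + us.sum)) % 4 = 0)

/-- only `(0, 72)` and `(5, 24)` remain -/
def invCheck : Bool :=
  sols.all fun l => (choices (l.map (uCand 72))).all fun us =>
    !excBool (1 + l.sum) us || [2, 4, 6, 8, 12, 18, 24, 36, 72].all fun C : ℕ =>
      decide (C < sqSum us) || [0, 5].all fun k : ℕ =>
        decide (pairSum (1 + l.sum) l us us ≠ ((k * (C * C) : ℕ) : ℤ)) ||
          decide ((k = 0 ∧ C = 72) ∨ (k = 5 ∧ C = 24))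

/-- `v` is the value at `w` for signed degree `x` and value `u` on the four group -/
def rowBool (x u v : ℤ) : Bool :=
  decide (((x.natAbs : ℤ) + 3 * (x.sign * u)) % 4 = 0) &&
    decide (((x.natAbs : ℤ) - x.sign * u) % 4 = 0) &&
    (List.range ((((x.natAbs : ℤ) + 3 * (x.sign * u)) / 4).toNat / 2 + 1)).any fun a =>
      (List.range ((((x.natAbs : ℤ) - x.sign * u) / 4).toNat / 2 + 1)).any fun b =>
        decide (((x.natAbs : ℤ) + 3 * (x.sign * u)) / 4 - 3 * (a : ℤ) +
          3 * (((x.natAbs : ℤ) - x.sign * u) / 4 - 3 * (b : ℤ)) = x.sign * v)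

/-- values on the element of order three -/
def wCand (q : ℤ × ℤ) : List ℤ :=
  ((List.range 13).map fun i : ℕ => (i : ℤ) - 6).filter fun v => rowBool q.1 q.2 v

/-- only one value of the coefficient is integral -/
def threeCheck : Bool :=
  sols.all fun l => (choices (l.map (uCand 24))).all fun us =>
    !(excBool (1 + l.sum) us && decide (sqSum us ≤ 24) &&
        decide (pairSum (1 + l.sum) l us us = 2880)) ||
      (choices ((l.zip us).map wCand)).all fun vs =>
        !(rowBool (1 + l.sum) (1 + us.sum) (1 + vs.sum) && decide (sqSum vs ≤ 36)) ||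
          decide (pairSum (1 + l.sum) l us vs = 4320) ||
          decide (pairSum (1 + l.sum) l us vs * 7350 % 6350400 ≠ 0)

theorem invCheck_true : invCheck = true := by decide +kernel

theorem threeCheck_true : threeCheck = true := by decide +kernel

theorem mem_choices {α β : Type*} {f : β → List α} : ∀ {l : List β} {us : List α},
    List.Forall₂ (fun x u => u ∈ f x) l us → us ∈ choices (l.map f)
  | [], [], _ => by simp [choices]
  | x :: l, u :: us, h => by
    cases h with
    | cons h1 h2 =>
      simp only [List.map_cons, choices, List.mem_flatMap, List.mem_map]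
      exact ⟨u, h1, us, mem_choices h2, rfl⟩

end Cfsg.Agent.SmallOrders.S2520
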