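-- Sylow subgroups of odd order in a simple group of order 2520.
--
-- * `five`, `seven`: self-centralising elements, `|N| = 20` in the first case
-- * `card_sylow_three`, `card_normalizer_three`
import Cfsg.Agent.Lib.SmallOrders.BlockDegrees.Criterion
import Cfsg.Agent.Lib.SmallOrders.Tools
import Cfsg.Agent.Lib.SmallOrders.CandList
import Cfsg.Agent.Lib.SmallOrders.SqSylow

set_option autoImplicit false

namespace Cfsg.Agent.SmallOrders

open Subgroup

/-- all elements of order `p` have centralisers of one order when the Sylow subgroups have order `p` -/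
theorem card_centralizer_eq_of_sylow_prime {G : Type*} [Group G] [Finite G] {p : ℕ} [Fact p.Prime]
    (hP : ∀ P : Sylow p G, Nat.card (P : Subgroup G) = p) {x y : G} (hx : orderOf x = p)
    (hy : orderOf y = p) :
    Nat.card (centralizer ({y} : Set G)) = Nat.card (centralizer ({x} : Set G)) := by
  obtain ⟨P, hPx⟩ := exists_sylow_eq_zpowers hP hx
  obtain ⟨Q, hQy⟩ := exists_sylow_eq_zpowers hP hy
  obtain ⟨g, hg⟩ := MulAction.exists_smul_eq G P Q
  have hzp : zpowers y = (zpowers x).map (MulAut.conj g).toMonoidHom := by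
    rw [← hQy, ← hPx, ← hg]; rfl
  rw [← centralizer_zpowers y, hzp, coe_map]
  have hcm : centralizer ((MulAut.conj g).toMonoidHom '' ((zpowers x : Subgroup G) : Set G)) =
      (centralizer ((zpowers x : Subgroup G) : Set G)).map (MulAut.conj g).toMonoidHom := by
    ext a
    simp only [mem_centralizer_iff, mem_map, Set.forall_mem_image]
    constructor
    · intro ha
      refine ⟨g⁻¹ * a * g, fun b hb => ?_, by simp [mul_assoc]⟩
      have := ha hb
      simp only [MulEquiv.coe_toMonoidHom, MulAut.conj_apply] at this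
      calc b * (g⁻¹ * a * g) = g⁻¹ * (g * b * g⁻¹ * a) * g := by group
        _ = g⁻¹ * (a * (g * b * g⁻¹)) * g := by rw [this]
        _ = g⁻¹ * a * g * b := by group
    · rintro ⟨c, hc, rfl⟩ b hb
      rw [← map_mul, ← map_mul, hc b hb]
  rw [hcm, card_map_of_injective (MulAut.conj g).injective, centralizer_zpowers]

/-- fixed points of an element of prime order normalising a subgroup -/
theorem card_inf_centralizer_modEq {G : Type*} [Group G] [Finite G] {q : ℕ} [Fact q.Prime] {f : G}
    (hf : orderOf f = q) {P : Subgroup G} (hn : f ∈ normalizer (P : Set G)) :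
    Nat.card P ≡ Nat.card ↥(P ⊓ centralizer ({f} : Set G)) [MOD q] := by
  let H := zpowers f
  have hHp : IsPGroup q H := IsPGroup.of_card (n := 1) (by rw [Nat.card_zpowers, hf, pow_one])
  let X := {a : G // a ∈ P}
  have hUn : ∀ g ∈ H, ∀ a ∈ P, g * a * g⁻¹ ∈ P := fun g hg a ha => by
    have hle' : H ≤ normalizer (P : Set G) := zpowers_le.mpr hn
    exact (mem_normalizer_iff.mp (hle' hg) a).mp ha
  let : MulAction H X :=
    { smul := fun g a => ⟨g.1 * a.1 * g.1⁻¹, hUn g.1 g.2 a.1 a.2⟩
      one_smul := fun a => Subtype.ext (show (1 : H).1 * a.1 * (1 : H).1⁻¹ = a.1 by simp)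
      mul_smul := fun g g' a => Subtype.ext
        (show (g * g' : H).1 * a.1 * (g * g' : H).1⁻¹ = g.1 * (g'.1 * a.1 * g'.1⁻¹) * g.1⁻¹ by
          simp [mul_assoc]) }
  have hmod := hHp.card_modEq_card_fixedPoints X
  have hW : Nat.card (MulAction.fixedPoints H X) = Nat.card ↥(P ⊓ centralizer ({f} : Set G)) := by
    refine Nat.card_congr
      { toFun := fun a => ⟨a.1.1, a.1.2, mem_centralizer_singleton_iff.mpr ?_⟩
        invFun := fun a => ⟨⟨a.1, a.2.1⟩, fun g => Subtype.ext ?_⟩
        left_inv := fun a => rfl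
        right_inv := fun a => rfl }
    · have h9 := congrArg Subtype.val (a.2 ⟨f, mem_zpowers f⟩)
      exact (mul_inv_eq_iff_eq_mul.mp h9).symm
    · show g.1 * a.1 * g.1⁻¹ = a.1
      have hc : Commute f a.1 := (mem_centralizer_singleton_iff.mp a.2.2).symm
      obtain ⟨k, hk⟩ := mem_zpowers_iff.mp g.2
      rw [← hk, (hc.zpow_left k).eq, mul_inv_cancel_right]
  rwa [hW] at hmod

namespace S2520

variable {G : Type*} [Group G] [Finite G] [IsSimpleGroup G]

theorem not_comm (h : Nat.card G = 2520) : ¬ IsMulCommutative G :=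
  not_isMulCommutative_of_card (by rw [h]; norm_num)

theorem five (h : Nat.card G = 2520) : ∀ f : G, orderOf f = 5 →
    Nat.card (centralizer ({f} : Set G)) = 5 ∧ Nat.card (normalizer (zpowers f : Set G)) = 20 := by
  have : Fact (Nat.Prime 5) := ⟨by norm_num⟩
  obtain ⟨x, j, hmem, hx, hN, hC⟩ :=
    BlockDegrees.mem_of_blockBool (not_comm h) h 5 51 [(126, 4)] (by decide +kernel)
  simp only [List.mem_singleton, Prod.mk.injEq] at hmem
  obtain ⟨hd, rfl⟩ := hmem
  rw [hd] at hN
  intro f hf
  have hP : ∀ P : Sylow 5 G, Nat.card (P : Subgroup G) = 5 := fun P => by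
    rw [card_sylow_subgroup (p := 5) (e := 1) (m := 504) (by rw [h]; norm_num) (by norm_num) P, pow_one]
  refine ⟨by rw [card_centralizer_eq_of_sylow_prime hP hx hf]; omega, ?_⟩
  obtain ⟨P, hPf⟩ := exists_sylow_eq_zpowers hP hf
  have h1 := card_normalizer_mul_card_sylow P
  rw [hPf, hd, h] at h1
  omega

theorem card_sylow_five (h : Nat.card G = 2520) : Nat.card {g : G // orderOf g = 5} = 504 := by
  have : Fact (Nat.Prime 5) := ⟨by norm_num⟩
  obtain ⟨x, j, hmem, -⟩ :=
    BlockDegrees.mem_of_blockBool (not_comm h) h 5 51 [(126, 4)] (by decide +kernel)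
  simp only [List.mem_singleton, Prod.mk.injEq] at hmem
  have hP : ∀ P : Sylow 5 G, Nat.card (P : Subgroup G) = 5 := fun P => by
    rw [card_sylow_subgroup (p := 5) (e := 1) (m := 504) (by rw [h]; norm_num) (by norm_num) P, pow_one]
  rw [card_orderOf_eq_prime hP, hmem.1]

theorem seven (h : Nat.card G = 2520) : ∀ f : G, orderOf f = 7 →
    Nat.card (centralizer ({f} : Set G)) = 7 := by
  have : Fact (Nat.Prime 7) := ⟨by norm_num⟩
  obtain ⟨x, j, hmem, hx, hN, hC⟩ :=
    BlockDegrees.mem_of_blockBool (not_comm h) h 7 51 [(120, 3)] (by decide +kernel)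
  simp only [List.mem_singleton, Prod.mk.injEq] at hmem
  obtain ⟨hd, rfl⟩ := hmem
  rw [hd] at hN
  intro f hf
  have hP : ∀ P : Sylow 7 G, Nat.card (P : Subgroup G) = 7 := fun P => by
    rw [card_sylow_subgroup (p := 7) (e := 1) (m := 360) (by rw [h]; norm_num) (by norm_num) P, pow_one]
  rw [card_centralizer_eq_of_sylow_prime hP hx hf]
  omega

/-- only `2` and `3` divide the centraliser of an element of order two or three -/
theorem dvd_seventy_two (h : Nat.card G = 2520) {a : G} (ha : orderOf a = 2 ∨ orderOf a = 3) :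
    Nat.card (centralizer ({a} : Set G)) ∣ 72 := by
  set C := Nat.card (centralizer ({a} : Set G))
  have hno : ∀ q : ℕ, q = 5 ∨ q = 7 → ¬ q ∣ C := by
    intro q hq hd
    have : Fact q.Prime := ⟨by rcases hq with rfl | rfl <;> norm_num⟩
    obtain ⟨f, hf⟩ := exists_prime_orderOf_dvd_card' (G := centralizer ({a} : Set G)) q hd
    have hcf : Nat.card (centralizer ({(f : G)} : Set G)) = q := by
      rcases hq with rfl | rfl
      · exact (five h _ (by rw [orderOf_coe, hf])).1
      · exact seven h _ (by rw [orderOf_coe, hf])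
    have h2 := orderOf_dvd_of_centralizer hcf (mem_centralizer_singleton_iff.mp f.2).symm
    rcases hq with rfl | rfl <;> rcases ha with e | e <;> rw [e] at h2 <;> norm_num at h2
  have hd : C ∣ 72 * 35 := by
    rw [show 72 * 35 = Nat.card G by rw [h]]
    exact card_subgroup_dvd_card _
  refine Nat.Coprime.dvd_of_dvd_mul_right ?_ hd
  rw [show (35 : ℕ) = 5 * 7 by norm_num]
  exact ((Nat.Prime.coprime_iff_not_dvd (by norm_num)).mpr (hno 5 (Or.inl rfl))).symm.mul_right
    ((Nat.Prime.coprime_iff_not_dvd (by norm_num)).mpr (hno 7 (Or.inr rfl))).symm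

theorem card_sylow_three (h : Nat.card G = 2520) [Fact (Nat.Prime 3)] :
    Nat.card (Sylow 3 G) = 70 := by
  have hmem := mem_of_candBool (not_comm h) h 3 2 [7, 10, 28, 70] (by decide +kernel)
  simp only [List.mem_cons, List.not_mem_nil, or_false] at hmem
  obtain ⟨P⟩ := (inferInstance : Nonempty (Sylow 3 G))
  have hP : Nat.card (P : Subgroup G) = 9 := by
    rw [card_sylow_subgroup (p := 3) (e := 2) (m := 280) (by rw [h]; norm_num) (by norm_num) P]; norm_num
  have h1 := card_normalizer_mul_card_sylow P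
  rw [h] at h1
  have key : ∀ q : ℕ, q = 5 ∨ q = 7 → q ∣ Nat.card (normalizer ((P : Subgroup G) : Set G)) → False := by
    intro q hq hd
    have : Fact q.Prime := ⟨by rcases hq with rfl | rfl <;> norm_num⟩
    obtain ⟨f, hf⟩ := exists_prime_orderOf_dvd_card' (G := normalizer ((P : Subgroup G) : Set G)) q hd
    have hfo : orderOf (f : G) = q := by rw [orderOf_coe, hf]
    have hmod := card_inf_centralizer_modEq hfo (P := (P : Subgroup G)) f.2
    set W := (P : Subgroup G) ⊓ centralizer ({(f : G)} : Set G)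
    have hW9 : Nat.card W ∣ 9 := hP ▸ card_dvd_of_le inf_le_left
    have hWq : Nat.card W ∣ q := by
      have hcf : Nat.card (centralizer ({(f : G)} : Set G)) = q := by
        rcases hq with rfl | rfl
        · exact (five h _ hfo).1
        · exact seven h _ hfo
      exact hcf ▸ card_dvd_of_le inf_le_right
    have hW1 : Nat.card W = 1 := Nat.eq_one_of_dvd_coprimes
      (by rcases hq with rfl | rfl <;> norm_num : Nat.Coprime 9 q) hW9 hWq
    rw [hP, hW1] at hmod
    rcases hq with rfl | rfl <;> exact absurd hmod (by decide)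
  rcases hmem with e | e | e | e
  · exact (key 5 (Or.inl rfl) (by rw [e] at h1; omega)).elim
  · exact (key 7 (Or.inr rfl) (by rw [e] at h1; omega)).elim
  · exact (key 5 (Or.inl rfl) (by rw [e] at h1; omega)).elim
  · exact e

theorem card_normalizer_three (h : Nat.card G = 2520) [Fact (Nat.Prime 3)] (P : Sylow 3 G) :
    Nat.card (P : Subgroup G) = 9 ∧ Nat.card (normalizer ((P : Subgroup G) : Set G)) = 36 ∧
      IsMulCommutative (P : Subgroup G) := by
  have hP : Nat.card (P : Subgroup G) = 3 ^ 2 :=
    card_sylow_subgroup (p := 3) (e := 2) (m := 280) (by rw [h]; norm_num) (by norm_num) P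
  have h1 := card_normalizer_mul_card_sylow P
  rw [card_sylow_three h, h] at h1
  exact ⟨hP, by omega, IsPGroup.isMulCommutative_of_card_eq_prime_sq hP⟩

end S2520

end Cfsg.Agent.SmallOrders
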