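-- Involutions of a simple group of order 2520, through the principal 5-block.
--
-- * `exists_block_list`: the block as a list of signed degrees with characters
-- * `involution`: one class, with centralisers of order 24
import Cfsg.Agent.Lib.SmallOrders.Order2520.Check
import Cfsg.Agent.Lib.SmallOrders.Order2520.Sylow
import Cfsg.Agent.Lib.SmallOrders.BlockDegrees.ValueFormula

set_option autoImplicit false

namespace Cfsg.Agent.SmallOrders.S2520

open Subgroup BlockDegrees Cfsg Cfsg.Agent.CyclicDefect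

variable {G : Type*} [Group G] [Finite G] [IsSimpleGroup G]

/-- the block for `f` of order five, with the values `u` on the involution `t` -/
structure BlockList (f t : G) (L : Subgroup G) (A E : Finset (IrrCharacter G))
    (σ : IrrCharacter G → ℤ) (ε : ℤ) (χe : IrrCharacter G) (u : IrrCharacter G → ℤ)
    (l : List (ℤ × IrrCharacter G)) : Prop where
  set : Setting 5 f L
  cardK : Nat.card (K f L) = 1
  data : BlockData 5 4 2 f L A E σ ε
  mem : χe ∈ E
  val : ∀ χ : IrrCharacter G, (χ : G → ℂ) t = u χ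
  eqE : ∀ χ ∈ E, charDegree (χ : G → ℂ) = charDegree (χe : G → ℂ) ∧ u χ = u χe
  coe : (↑l : Multiset (ℤ × IrrCharacter G)) =
    A.val.map fun χ => (σ χ * (charDegree (χ : G → ℂ) : ℤ), χ)
  sol : l.map Prod.fst ∈ sols
  deg : 1 + (l.map Prod.fst).sum = ε * (charDegree (χe : G → ℂ) : ℤ)
  exc : excBool (1 + (l.map Prod.fst).sum) (l.map fun q => σ q.2 * u q.2) = true
  bound : ∀ q ∈ l, σ q.2 * u q.2 ∈ vCand q.1
  sq : sqSum (l.map fun q => σ q.2 * u q.2) ≤ Nat.card (centralizer ({t} : Set G))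
  form : ∃ k : ℕ, (k = 0 ∨ k = 5) ∧
    pairSum (1 + (l.map Prod.fst).sum) (l.map Prod.fst) (l.map fun q => σ q.2 * u q.2)
        (l.map fun q => σ q.2 * u q.2) =
      ((k * (Nat.card (centralizer ({t} : Set G)) * Nat.card (centralizer ({t} : Set G))) : ℕ) : ℤ) ∧
    (k ≠ 0 → ∃ a, IsConj t a ∧ a * f * a⁻¹ = f⁻¹) ∧ ((∃ a, IsConj t a ∧ a * f * a⁻¹ = f⁻¹) → k ≠ 0)

theorem sum_of_coe {β : Type*} [AddCommMonoid β] {A : Finset (IrrCharacter G)}
    {σ : IrrCharacter G → ℤ} {l : List (ℤ × IrrCharacter G)}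
    (h : (↑l : Multiset (ℤ × IrrCharacter G)) =
      A.val.map fun χ => (σ χ * (charDegree (χ : G → ℂ) : ℤ), χ)) (g : ℤ × IrrCharacter G → β) :
    (l.map g).sum = ∑ χ ∈ A, g (σ χ * (charDegree (χ : G → ℂ) : ℤ), χ) := by
  rw [← Multiset.sum_coe, ← Multiset.map_coe, h, Multiset.map_map]
  rfl

theorem exists_block_list (h : Nat.card G = 2520) {f : G} (hf : orderOf f = 5) {t : G}
    (ht : orderOf t = 2) :
    ∃ (L : Subgroup G) (A E : Finset (IrrCharacter G)) (σ : IrrCharacter G → ℤ) (ε : ℤ)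
      (χe : IrrCharacter G) (u : IrrCharacter G → ℤ) (l : List (ℤ × IrrCharacter G)),
      BlockList f t L A E σ ε χe u l := by
  classical
  have : Fact (Nat.Prime 5) := ⟨by norm_num⟩
  obtain ⟨hC, hN⟩ := five h f hf
  obtain ⟨L, A, E, σ, ε, χe, u, hS, hcK, hD, hχe, hu, hEd, hval, hzero⟩ :=
    exists_valData (c := 1) (e := 4) (lo := 2) (not_comm h) (by norm_num) hf (by rw [h]; norm_num)
      (by rw [hC]) (by rw [hN]) (Or.inl le_rfl) ht
  rw [h] at hval hzero
  obtain ⟨⟨hcard, hX, hy1, hy2, hy3, hsum, hsq⟩, hP, hw1, hw2, hvsq, k, hpk, hk, hpos, hform⟩ := hval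
  set y := ε * (charDegree (χe : G → ℂ) : ℤ)
  set Q := A.val.map fun χ => (σ χ * (charDegree (χ : G → ℂ) : ℤ), χ) with hQ
  have hfst : Q.map Prod.fst = (A.val.map fun χ => (σ χ * (charDegree (χ : G → ℂ) : ℤ), σ χ * u χ)).map
      Prod.fst := by
    rw [hQ, Multiset.map_map, Multiset.map_map]; rfl
  rw [← hfst] at hcard hX hsum hsq
  have hmem : ∀ x ∈ Q.map Prod.fst, x ∈ degCand 2520 5 2 51 := by
    intro x hx
    obtain ⟨h1, h2, h3⟩ := hX x hx
    have hlt : x.natAbs < 51 := by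
      have : x.natAbs ^ 2 ≤ ((Q.map Prod.fst).map fun z => z.natAbs ^ 2).sum :=
        Multiset.le_sum_of_mem (Multiset.mem_map_of_mem (fun z : ℤ => z.natAbs ^ 2) hx)
      have h4 : x.natAbs * x.natAbs < 51 * 51 := by rw [← pow_two]; omega
      exact Nat.mul_self_lt_mul_self_iff.mp h4
    refine List.mem_flatMap.mpr ⟨x.natAbs, List.mem_range.mpr hlt, ?_⟩
    rw [if_pos ⟨h1, h2⟩, List.mem_append]
    rcases Int.natAbs_eq x with e' | e'
    · left; rw [← e', if_pos h3]; exact List.mem_singleton.mpr rfl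
    · right
      rw [show -((x.natAbs : ℕ) : ℤ) = x from e'.symm, if_pos h3]
      exact List.mem_singleton.mpr rfl
  obtain ⟨l₀, hl₀, hlX⟩ := degSols_complete (n := 2520) (p := 5) (e := 4) (t := (5 - 1) / 4) (lo := 2)
    _ 3 1 1 _ (by omega) hmem (by
      simp only [finalBool, Bool.and_eq_true, decide_eq_true_eq]
      rw [hsum]
      exact ⟨⟨⟨hy1, hy2⟩, hy3⟩, hsq⟩)
  obtain ⟨l, hll, hlQ⟩ := exists_aligned l₀ Q hlX.symm
  have hdeg : 1 + (l.map Prod.fst).sum = y := by
    rw [← Multiset.sum_coe, ← Multiset.map_coe, hlQ, hsum]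
  have hwsum : (l.map fun q => σ q.2 * u q.2).sum = ∑ χ ∈ A, σ χ * u χ := sum_of_coe hlQ _
  have hpsum : ∀ (g : ℤ × ℤ → ℤ), ((A.val.map fun χ =>
      (σ χ * (charDegree (χ : G → ℂ) : ℤ), σ χ * u χ)).map g).sum =
      ∑ χ ∈ A, g (σ χ * (charDegree (χ : G → ℂ) : ℤ), σ χ * u χ) := fun g => by
    rw [Multiset.map_map]; rfl
  have hsnd : 1 + (l.map fun q => σ q.2 * u q.2).sum = 1 + ∑ χ ∈ A, σ χ * u χ := by rw [hwsum]
  refine ⟨L, A, E, σ, ε, χe, u, l, hS, hcK, hD, hχe, hu, hEd, hlQ, hll ▸ hl₀, hdeg, ?_, ?_, ?_, ?_⟩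
  · simp only [excBool, Bool.and_eq_true, decide_eq_true_eq]
    rw [hpsum] at hw1 hw2
    rw [hdeg, hwsum]
    exact ⟨hw1, hw2⟩
  · intro q hq
    have hq' : q ∈ Q := hlQ ▸ (Multiset.mem_coe.mpr hq)
    obtain ⟨χ, hχ, rfl⟩ := Multiset.mem_map.mp hq'
    obtain ⟨h1, h2⟩ := hP (σ χ * (charDegree (χ : G → ℂ) : ℤ), σ χ * u χ) (Multiset.mem_map_of_mem _ hχ)
    show σ χ * u χ ∈ vCand (σ χ * (charDegree (χ : G → ℂ) : ℤ))
    generalize σ χ * u χ = v at h1 h2 ⊢
    generalize σ χ * (charDegree (χ : G → ℂ) : ℤ) = x at h1 h2 ⊢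
    refine List.mem_filter.mpr ⟨List.mem_map.mpr ⟨(v + (x.natAbs : ℤ)).toNat, List.mem_range.mpr ?_, ?_⟩, ?_⟩
    · simp only at h1; omega
    · simp only at h1; omega
    · simp only [Bool.and_eq_true, decide_eq_true_eq]; exact ⟨h1, h2⟩
  · simp only [hpsum] at hvsq
    rw [sqSum, hwsum, List.map_map, sum_of_coe hlQ]
    simp only [Function.comp_apply] at hvsq ⊢
    norm_num at hvsq ⊢
    exact hvsq
  · have key : pairSum (1 + (l.map Prod.fst).sum) (l.map Prod.fst) (l.map fun q => σ q.2 * u q.2)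
        (l.map fun q => σ q.2 * u q.2) =
        ((1 : ℕ) : ℤ) * (2520 + ((A.val.map fun χ => (σ χ * (charDegree (χ : G → ℂ) : ℤ), σ χ * u χ)).map
            fun q => q.2 ^ 2 * (2520 / q.1)).sum -
          (1 + ((A.val.map fun χ => (σ χ * (charDegree (χ : G → ℂ) : ℤ), σ χ * u χ)).map Prod.snd).sum) ^ 2 *
            (2520 / y)) := by
      rw [pairSum, List.zip_map', List.zip_map', List.map_map, sum_of_coe hlQ, hdeg, hwsum, hpsum, hpsum,
        Nat.cast_one, one_mul]
      simp only [Function.comp_apply, pow_two]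
    by_cases hex : ∃ a, IsConj t a ∧ a * f * a⁻¹ = f⁻¹
    · have := hpos hex
      refine ⟨5, Or.inr rfl, ?_, fun _ => hex, fun _ => by norm_num⟩
      have hk5 : k = 5 := by
        obtain ⟨j, rfl⟩ := hpk
        omega
      rw [key, ← hk5]
      norm_num [pow_two] at hform ⊢
      linear_combination hform
    · refine ⟨0, Or.inl rfl, ?_, fun hk0 => absurd rfl hk0, fun h' => absurd h' hex⟩
      have h0 := hzero hex
      rw [key]
      norm_num at h0 ⊢
      linear_combination h0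

theorem card_centralizer_two (h : Nat.card G = 2520) {f : G} (hf : orderOf f = 5) {t : G}
    (ht : orderOf t = 2) :
    (Nat.card (centralizer ({t} : Set G)) = 24 ∧ ∃ a, IsConj t a ∧ a * f * a⁻¹ = f⁻¹) ∨
      (Nat.card (centralizer ({t} : Set G)) = 72 ∧ ¬ ∃ a, IsConj t a ∧ a * f * a⁻¹ = f⁻¹) := by
  obtain ⟨L, A, E, σ, ε, χe, u, l, hB⟩ := exists_block_list h hf ht
  set C := Nat.card (centralizer ({t} : Set G))
  set us := l.map fun q => σ q.2 * u q.2 with hus
  have hd := dvd_seventy_two h (Or.inl ht)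
  have h2 : 2 ∣ C := by
    have := orderOf_dvd_natCard _ (mem_centralizer_self t)
    rwa [ht] at this
  have hC72 := Nat.le_of_dvd (by norm_num) hd
  have hmem : C ∈ [2, 4, 6, 8, 12, 18, 24, 36, 72] := by
    have : ∀ C, C < 73 → C ∣ 72 → 2 ∣ C → C ∈ [2, 4, 6, 8, 12, 18, 24, 36, 72] := by decide +kernel
    exact this C (by omega) hd h2
  have husmem : us ∈ choices ((l.map Prod.fst).map (uCand 72)) := by
    refine mem_choices ?_
    rw [hus, List.forall₂_map_left_iff, List.forall₂_map_right_iff, List.forall₂_same]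
    intro q hq
    refine List.mem_filter.mpr ⟨hB.bound q hq, ?_⟩
    have h1 := hB.sq
    simp only [sqSum, List.map_map] at h1
    have h3 : (σ q.2 * u q.2).natAbs ^ 2 ≤ (l.map ((fun u => u.natAbs ^ 2) ∘ fun q => σ q.2 * u q.2)).sum :=
      List.le_sum_of_mem (List.mem_map.mpr ⟨q, hq, rfl⟩)
    simp only [decide_eq_true_eq]
    omega
  have hchk := invCheck_true
  simp only [invCheck, List.all_eq_true, Bool.or_eq_true, decide_eq_true_eq, Bool.not_eq_true'] at hchk
  rcases hchk _ hB.sol us husmem with h1 | h1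
  · rw [hB.exc] at h1; exact absurd h1 (by simp)
  obtain ⟨k, hk, heq, hk1, hk2⟩ := hB.form
  rcases h1 C hmem with h3 | h3
  · exact absurd (Nat.lt_of_lt_of_le h3 hB.sq) (lt_irrefl _)
  rcases h3 k (by rcases hk with rfl | rfl <;> simp) with h4 | ⟨rfl, h5⟩ | ⟨rfl, h5⟩
  · exact absurd heq h4
  · exact Or.inr ⟨h5, fun he => hk2 he rfl⟩
  · exact Or.inl ⟨h5, hk1 (by norm_num)⟩

theorem centralizer_ne_seventy_two (h : Nat.card G = 2520) {t : G} (ht : orderOf t = 2)
    (hC : Nat.card (centralizer ({t} : Set G)) = 72) : False := by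
  classical
  have hG := not_comm h
  have : Fact (Nat.Prime 3) := ⟨Nat.prime_three⟩
  have : Fact (Nat.Prime 2) := ⟨Nat.prime_two⟩
  set C := centralizer ({t} : Set G)
  obtain ⟨S⟩ := (inferInstance : Nonempty (Sylow 3 C))
  have hS : Nat.card (S : Subgroup C) = 9 := by
    rw [card_sylow_subgroup (p := 3) (e := 2) (m := 8) (by rw [hC]; norm_num) (by norm_num) S]; norm_num
  obtain ⟨P, hP⟩ := (S.isPGroup'.map C.subtype).exists_le_sylow
  obtain ⟨hP9, hN36, hab⟩ := card_normalizer_three h P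
  have hPe : (S : Subgroup C).map C.subtype = (P : Subgroup G) := eq_of_le_of_card_ge hP (by
    rw [hP9, card_map_of_injective C.subtype_injective, hS])
  have hPC : (P : Subgroup G) ≤ C := hPe ▸ map_subtype_le _
  set N := normalizer ((P : Subgroup G) : Set G)
  set CP := centralizer ((P : Subgroup G) : Set G)
  have htCP : t ∈ CP := mem_centralizer_iff.mpr fun a ha => mem_centralizer_singleton_iff.mp (hPC ha)
  have hPCP : (P : Subgroup G) ≤ CP := fun a ha => mem_centralizer_iff.mpr fun b hb =>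
    congrArg Subtype.val (mul_comm' (⟨b, hb⟩ : (P : Subgroup G)) ⟨a, ha⟩)
  have hCPN : CP ≤ N := centralizer_le_normalizer _
  have hCPne : ¬ N ≤ CP := normalizer_not_le_centralizer hG (by rw [h]; norm_num) P
  have hCP18 : Nat.card CP = 18 := by
    have h1 := card_dvd_of_le hCPN
    rw [hN36] at h1
    have h2 := orderOf_dvd_natCard _ htCP
    rw [ht] at h2
    have h3 := card_dvd_of_le hPCP
    rw [hP9] at h3
    have h4 : Nat.card CP ≠ 36 := fun e => hCPne (eq_of_le_of_card_ge hCPN (by rw [e, hN36])).ge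
    have h5 := Nat.le_of_dvd (by norm_num) h1
    obtain ⟨j, hj⟩ := Nat.Coprime.mul_dvd_of_dvd_of_dvd (by norm_num : Nat.Coprime 2 9) h2 h3
    have h6 : 0 < Nat.card CP := Nat.card_pos
    omega
  -- `t` is the only involution of `C(P)`
  have hNC : N ≤ C := by
    intro g hg
    have hc : g * t * g⁻¹ ∈ CP := by
      refine mem_centralizer_iff.mpr fun a ha => ?_
      have ha' : g⁻¹ * a * g ∈ (P : Subgroup G) := (Subgroup.mem_normalizer_iff''.mp hg a).mp ha
      have := mem_centralizer_iff.mp htCP _ ha'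
      calc a * (g * t * g⁻¹) = g * (g⁻¹ * a * g * t) * g⁻¹ := by group
        _ = g * (t * (g⁻¹ * a * g)) * g⁻¹ := by rw [this]
        _ = g * t * g⁻¹ * a := by group
    have hT : ∀ T : Sylow 2 CP, Nat.card (T : Subgroup CP) = 2 := fun T => by
      rw [card_sylow_subgroup (p := 2) (e := 1) (m := 9) (by rw [hCP18]; norm_num) (by norm_num) T, pow_one]
    have ho : orderOf (⟨g * t * g⁻¹, hc⟩ : CP) = 2 := by
      rw [← orderOf_coe]
      exact (orderOf_injective (MulAut.conj g).toMonoidHom (MulAut.conj g).injective t).trans ht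
    obtain ⟨T, hTt⟩ := exists_sylow_eq_zpowers hT (show orderOf (⟨t, htCP⟩ : CP) = 2 by
      rw [← orderOf_coe]; exact ht)
    obtain ⟨U, hUt⟩ := exists_sylow_eq_zpowers hT ho
    obtain ⟨c, hc'⟩ := MulAction.exists_smul_eq CP T U
    have hmemU : (⟨g * t * g⁻¹, hc⟩ : CP) ∈ (U : Subgroup CP) := hUt ▸ mem_zpowers _
    rw [← hc'] at hmemU
    obtain ⟨b, hb, hbe⟩ := (Subgroup.mem_map (f := (MulAut.conj c).toMonoidHom)).mp hmemU
    rw [hTt] at hb
    obtain ⟨i, rfl⟩ := mem_zpowers_iff.mp hb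
    have e := congrArg Subtype.val hbe
    simp only [MulEquiv.coe_toMonoidHom, MulAut.conj_apply, Subgroup.coe_mul, Subgroup.coe_inv,
      SubgroupClass.coe_zpow] at e
    have hzz : (t : G) ^ i = 1 ∨ t ^ i = t := by
      rw [← zpow_mod_orderOf t i, ht]
      rcases Int.emod_two_eq_zero_or_one i with h' | h' <;>
        · rw [show ((2 : ℕ) : ℤ) = 2 from rfl, h']; simp
    rcases hzz with h' | h' <;> rw [h'] at e
    · exfalso
      rw [mul_one, mul_inv_cancel] at e
      have := ho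
      rw [show (⟨g * t * g⁻¹, hc⟩ : CP) = 1 from Subtype.ext e.symm, orderOf_one] at this
      norm_num at this
    · have hcC : Commute (c : G) t := by
        -- `C(P) = P ⟨t⟩` and both factors centralise `t`
        have hcmem : CP ≤ C := by
          set D := (P : Subgroup G) ⊔ zpowers t
          have hDC : D ≤ C := sup_le hPC (zpowers_le.mpr (mem_centralizer_self t))
          have hDP : D ≤ CP := sup_le hPCP (zpowers_le.mpr htCP)
          have hDe : D = CP := eq_of_le_of_card_ge hDP (by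
            rw [hCP18]
            have h1 := card_dvd_of_le (le_sup_left : (P : Subgroup G) ≤ D)
            have h2 := orderOf_dvd_natCard _ ((le_sup_right : zpowers t ≤ D) (mem_zpowers t))
            rw [hP9] at h1
            rw [ht] at h2
            exact Nat.le_of_dvd Nat.card_pos
              (Nat.Coprime.mul_dvd_of_dvd_of_dvd (by norm_num : Nat.Coprime 2 9) h2 h1))
          exact hDe ▸ hDC
        exact mem_centralizer_singleton_iff.mp (hcmem c.2)
      rw [hcC.eq, mul_inv_cancel_right] at e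
      exact mem_centralizer_singleton_iff.mpr (mul_inv_eq_iff_eq_mul.mp e.symm)
  -- but then `N(P) ∩ C` is too large
  set N' := normalizer ((S : Subgroup C) : Set C)
  have hN' : N.subgroupOf C ≤ N' := by
    intro g hg
    rw [mem_normalizer_iff]
    intro a
    have h5 : ∀ b : C, b ∈ (S : Subgroup C) ↔ (b : G) ∈ (P : Subgroup G) := fun b => by
      rw [← hPe]; exact (mem_map_iff_mem C.subtype_injective).symm
    rw [h5, h5]
    exact mem_normalizer_iff.mp hg a
  have h6 := card_dvd_of_le hN'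
  rw [Nat.card_congr (subgroupOfEquivOfLe hNC).toEquiv, hN36] at h6
  have h7 := card_normalizer_mul_card_sylow S
  rw [hC] at h7
  have h8 : Nat.card (Sylow 3 C) % 3 = 1 := (card_sylow_modEq_one 3 C : _)
  obtain ⟨j, hj⟩ := h6
  rw [hj, mul_assoc] at h7
  have h9 : Nat.card (Sylow 3 C) ∣ 2 := ⟨j, by rw [mul_comm]; omega⟩
  have h10 := Nat.le_of_dvd (by norm_num) h9
  have h11 : Nat.card (Sylow 3 C) = 1 := by omega
  have hle := le_normalizer_of_card_sylow_one hPC h11
  have := card_le_of_le hle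
  rw [hC, hN36] at this
  omega

theorem involution (h : Nat.card G = 2520) :
    (∀ t : G, orderOf t = 2 → Nat.card (centralizer ({t} : Set G)) = 24) ∧
      ∀ t u : G, orderOf t = 2 → orderOf u = 2 → IsConj t u := by
  have : Fact (Nat.Prime 5) := ⟨by norm_num⟩
  obtain ⟨f, hf⟩ := exists_prime_orderOf_dvd_card' (G := G) 5 (by rw [h]; norm_num)
  have hC : ∀ t : G, orderOf t = 2 →
      Nat.card (centralizer ({t} : Set G)) = 24 ∧ ∃ a, IsConj t a ∧ a * f * a⁻¹ = f⁻¹ := fun t ht =>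
    (card_centralizer_two h hf ht).resolve_right fun h' => centralizer_ne_seventy_two h ht h'.1
  refine ⟨fun t ht => (hC t ht).1, fun t u ht hu => ?_⟩
  obtain ⟨-, a, ha, haf⟩ := hC t ht
  obtain ⟨-, b, hb, hbf⟩ := hC u hu
  have hinv : ∀ {s c : G}, orderOf s = 2 → IsConj s c → c * c = 1 := fun {s c} hs hsc => by
    obtain ⟨g, rfl⟩ := isConj_iff.mp hsc
    rw [show g * s * g⁻¹ * (g * s * g⁻¹) = g * (s * s) * g⁻¹ by group, ← pow_two, ← hs,
      pow_orderOf_eq_one]
    group
  refine ha.trans (IsConj.trans ?_ hb.symm)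
  -- both invert `f`, so they differ by a power of `f`
  have haa := hinv ht ha
  have hbb := hinv hu hb
  have hcen : a * b ∈ centralizer ({f} : Set G) := mem_centralizer_singleton_iff.mpr (by
    have e2 : b * f = f⁻¹ * b := mul_inv_eq_iff_eq_mul.mp hbf
    have e1 : a * f⁻¹ = f * a := by
      have : a * f⁻¹ * a⁻¹ = f := by rw [← conj_inv, haf, inv_inv]
      exact mul_inv_eq_iff_eq_mul.mp this
    rw [mul_assoc, e2, ← mul_assoc, e1, mul_assoc])
  have hCz : zpowers f = centralizer ({f} : Set G) := eq_of_le_of_card_ge (zpowers_le_centralizer f)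
    (by rw [(five h f hf).1, Nat.card_zpowers, hf])
  rw [← hCz] at hcen
  obtain ⟨i, hi⟩ := mem_zpowers_iff.mp hcen
  refine isConj_iff.mpr ⟨f ^ (2 * i), ?_⟩
  have hb' : b = a * f ^ i := by rw [hi, ← mul_assoc, haa, one_mul]
  have e3 : f ^ (2 * i) * a = a * f ^ (-(2 * i)) := by
    have h1 : a * f ^ (-(2 * i)) * a⁻¹ = f ^ (2 * i) := by rw [← conj_zpow, haf, inv_zpow', neg_neg]
    exact (mul_inv_eq_iff_eq_mul.mp h1).symm
  rw [e3, hb', mul_assoc, ← zpow_neg, ← zpow_add,
    show -(2 * i) + -(2 * i) = i + ((5 : ℕ) : ℤ) * (-i) by push_cast; ring, zpow_add, zpow_mul, ← hf,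
    zpow_natCast, pow_orderOf_eq_one, one_zpow, mul_one]

end Cfsg.Agent.SmallOrders.S2520
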