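-- Elements of order three commuting with an involution in a simple group of order 2520.
--
-- * `InA`: order three and centralising an involution
-- * `exists_four`: centralisers of order 36 with a normal four group
-- * `exists_three`: `C(t)` has one subgroup of order three, and inverts it
-- * `isConj_inA`, `card_inA`: one class with 70 members
import Cfsg.Agent.Lib.SmallOrders.Order2520.Involution

set_option autoImplicit false

namespace Cfsg.Agent.SmallOrders.S2520

open Subgroup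

section General

variable {G : Type*} [Group G]

theorem eq_of_mem_zpowers_two {b x : G} (hb : orderOf b = 2) (hx : x ∈ zpowers b) (hx1 : x ≠ 1) :
    x = b := by
  obtain ⟨i, rfl⟩ := mem_zpowers_iff.mp hx
  rw [← zpow_mod_orderOf, hb] at hx1 ⊢
  rcases Int.emod_two_eq_zero_or_one i with e | e
  · simp [e] at hx1
  · simp [e]

theorem conj_eq_or_inv {w g : G} (hw : orderOf w = 3) (hg : g * w * g⁻¹ ∈ zpowers w) :
    g * w * g⁻¹ = w ∨ g * w * g⁻¹ = w⁻¹ := by
  obtain ⟨i, hi⟩ := mem_zpowers_iff.mp hg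
  have h3 : i % 3 = 0 ∨ i % 3 = 1 ∨ i % 3 = 2 := by omega
  rw [← zpow_mod_orderOf, hw] at hi
  rcases h3 with e | e | e <;> simp only [Nat.cast_ofNat, e] at hi
  · exfalso
    rw [zpow_zero] at hi
    have : w = 1 := conj_eq_one_iff.mp hi.symm
    simp [this] at hw
  · exact Or.inl (by rw [← hi, zpow_one])
  · refine Or.inr ?_
    rw [← hi]
    refine eq_inv_of_mul_eq_one_left ?_
    rw [show (2 : ℤ) = ((2 : ℕ) : ℤ) from rfl, zpow_natCast, ← pow_succ]
    show w ^ (3 : ℕ) = 1
    rw [← hw]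
    exact pow_orderOf_eq_one w

theorem mem_zpowers_three {w x : G} (hw : orderOf w = 3) (hx : orderOf x = 3) (hm : x ∈ zpowers w) :
    x = w ∨ x = w⁻¹ := by
  obtain ⟨i, rfl⟩ := mem_zpowers_iff.mp hm
  rw [← zpow_mod_orderOf, hw] at hx ⊢
  have h3 : i % 3 = 0 ∨ i % 3 = 1 ∨ i % 3 = 2 := by omega
  rcases h3 with e | e | e <;> simp only [Nat.cast_ofNat, e] at hx ⊢
  · simp at hx
  · exact Or.inl (zpow_one w)
  · refine Or.inr (eq_inv_of_mul_eq_one_left ?_)
    rw [show (2 : ℤ) = ((2 : ℕ) : ℤ) from rfl, zpow_natCast, ← pow_succ]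
    show w ^ (3 : ℕ) = 1
    rw [← hw]
    exact pow_orderOf_eq_one w

variable [Finite G]

/-- a subgroup normalising a subgroup of order three has a subgroup of index at most two centralising it -/
theorem card_le_two_mul {w : G} (hw : orderOf w = 3) {H : Subgroup G}
    (hH : ∀ g ∈ H, g * w * g⁻¹ ∈ zpowers w) :
    Nat.card H ≤ 2 * Nat.card ↥(H ⊓ centralizer ({w} : Set G)) := by
  classical
  by_cases hall : H ≤ centralizer ({w} : Set G)
  · rw [inf_eq_left.mpr hall]; omega
  obtain ⟨g₀, hg₀, hne⟩ := SetLike.not_le_iff_exists.mp hall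
  have hflip : ∀ g ∈ H, g ∉ centralizer ({w} : Set G) → g * w * g⁻¹ = w⁻¹ := fun g hg hn =>
    (conj_eq_or_inv hw (hH g hg)).resolve_left fun e =>
      hn (mem_centralizer_singleton_iff.mpr (mul_inv_eq_iff_eq_mul.mp e))
  have hmem : ∀ g ∈ H, g ∉ centralizer ({w} : Set G) → g₀ * g ∈ centralizer ({w} : Set G) := by
    intro g hg hn
    refine mem_centralizer_singleton_iff.mpr (mul_inv_eq_iff_eq_mul.mp ?_)
    calc g₀ * g * w * (g₀ * g)⁻¹ = g₀ * (g * w * g⁻¹) * g₀⁻¹ := by group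
      _ = (g₀ * w * g₀⁻¹)⁻¹ := by rw [hflip g hg hn, conj_inv]
      _ = w := by rw [hflip g₀ hg₀ hne, inv_inv]
  let φ : H → Bool × ↥(H ⊓ centralizer ({w} : Set G)) := fun g =>
    if hg : (g : G) ∈ centralizer ({w} : Set G) then (true, ⟨g, g.2, hg⟩)
    else (false, ⟨g₀ * g, mul_mem hg₀ g.2, hmem g g.2 hg⟩)
  have hφ : Function.Injective φ := by
    intro a b hab
    simp only [φ] at hab
    split_ifs at hab <;> simp only [Prod.mk.injEq, Bool.true_eq_false, Bool.false_eq_true,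
      false_and, true_and] at hab <;> apply Subtype.ext
    · exact (Subtype.mk.inj hab :)
    · exact mul_left_cancel (Subtype.mk.inj hab :)
  have := Nat.card_le_card_of_injective φ hφ
  rwa [Nat.card_prod, show Nat.card Bool = 2 by simp] at this

theorem exists_conj_of_sylow_two {H : Subgroup G}
    (hH : ∀ T : Sylow 2 H, Nat.card (T : Subgroup H) = 2) {a b : G} (ha : a ∈ H) (hb : b ∈ H)
    (hao : orderOf a = 2) (hbo : orderOf b = 2) : ∃ c ∈ H, c * a * c⁻¹ = b := by
  have : Fact (Nat.Prime 2) := ⟨Nat.prime_two⟩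
  have ha2 : orderOf (⟨a, ha⟩ : H) = 2 := by rw [← orderOf_coe]; exact hao
  have hb2 : orderOf (⟨b, hb⟩ : H) = 2 := by rw [← orderOf_coe]; exact hbo
  obtain ⟨T, hT⟩ := exists_sylow_eq_zpowers hH ha2
  obtain ⟨U, hU⟩ := exists_sylow_eq_zpowers hH hb2
  obtain ⟨c, hc⟩ := MulAction.exists_smul_eq H T U
  have hm := Subgroup.smul_mem_pointwise_smul (⟨a, ha⟩ : H) (MulAut.conj c) (T : Subgroup H)
    (hT ▸ mem_zpowers _)
  rw [← Sylow.pointwise_smul_def] at hm
  rw [show (MulAut.conj c • T : Sylow 2 H) = U from hc, hU, MulAut.smul_def, MulAut.conj_apply] at hm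
  refine ⟨c, c.2, congrArg Subtype.val (eq_of_mem_zpowers_two hb2 hm ?_)⟩
  intro e
  have := conj_eq_one_iff.mp e
  simp [this] at ha2

/-- in a group of order 24, a subgroup of order three with a large normaliser is normal -/
theorem unique_three {H : Subgroup G} (hH : Nat.card H = 24) {w : G} (hw : orderOf w = 3)
    (hwH : w ∈ H) (h12 : 12 ≤ Nat.card ↥(normalizer (zpowers w : Set G) ⊓ H)) :
    H ≤ normalizer (zpowers w : Set G) ∧
      ∀ x ∈ H, orderOf x = 3 → x = w ∨ x = w⁻¹ := by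
  have : Fact (Nat.Prime 3) := ⟨Nat.prime_three⟩
  set w' : H := ⟨w, hwH⟩
  have hw' : orderOf w' = 3 := by rw [← orderOf_coe]; exact hw
  have hS : ∀ S : Sylow 3 H, Nat.card (S : Subgroup H) = 3 := fun S => by
    rw [card_sylow_subgroup (p := 3) (e := 1) (m := 8) (by rw [hH]; norm_num) (by norm_num) S, pow_one]
  obtain ⟨S, hSw⟩ := exists_sylow_eq_zpowers hS hw'
  have hle : zpowers w ≤ H := zpowers_le.mpr hwH
  have hsub : (zpowers w).subgroupOf H = zpowers w' := by
    rw [← show (zpowers w').map H.subtype = zpowers w from MonoidHom.map_zpowers _ _]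
    exact comap_map_eq_self_of_injective H.subtype_injective _
  have hNe : normalizer ((S : Subgroup H) : Set H) = (normalizer (zpowers w : Set G)).subgroupOf H := by
    rw [subgroupOf_normalizer_eq hle, hsub, hSw]
  have h1 := card_normalizer_mul_card_sylow S
  rw [hNe, ← inf_subgroupOf_right, Nat.card_congr (subgroupOfEquivOfLe inf_le_right).toEquiv, hH] at h1
  have h2 : Nat.card (Sylow 3 H) % 3 = 1 := (card_sylow_modEq_one 3 H : _)
  have h3 : Nat.card (Sylow 3 H) = 1 := by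
    rcases Nat.lt_or_ge (Nat.card (Sylow 3 H)) 4 with hlt | hge
    · omega
    · have := Nat.mul_le_mul h12 hge
      omega
  rw [h3, mul_one] at h1
  refine ⟨inf_eq_right.mp (eq_of_le_of_card_ge inf_le_right (by rw [h1, hH])), fun x hx hxo => ?_⟩
  have : Subsingleton (Sylow 3 H) := Finite.card_le_one_iff_subsingleton.mp h3.le
  obtain ⟨T, hT⟩ := exists_sylow_eq_zpowers hS (show orderOf (⟨x, hx⟩ : H) = 3 by
    rw [← orderOf_coe]; exact hxo)
  have hmem : (⟨x, hx⟩ : H) ∈ zpowers w' := by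
    rw [← hSw, Subsingleton.elim S T, hT]; exact mem_zpowers _
  rw [← hsub, mem_subgroupOf] at hmem
  exact mem_zpowers_three hw hxo hmem

end General

variable {G : Type*} [Group G]

/-- elements of order three centralising an involution -/
def InA (w : G) : Prop := orderOf w = 3 ∧ ∃ t : G, orderOf t = 2 ∧ Commute t w

theorem InA.inv {w : G} (hw : InA w) : InA w⁻¹ := by
  obtain ⟨h3, t, ht, hc⟩ := hw
  exact ⟨(orderOf_inv w).trans h3, t, ht, hc.inv_right⟩

theorem InA.conj {w : G} (hw : InA w) (g : G) : InA (g * w * g⁻¹) := by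
  obtain ⟨h3, t, ht, hc⟩ := hw
  have ho : ∀ x : G, orderOf (g * x * g⁻¹) = orderOf x := fun x =>
    orderOf_injective (MulAut.conj g).toMonoidHom (MulAut.conj g).injective x
  exact ⟨(ho w).trans h3, g * t * g⁻¹, (ho t).trans ht, by
    show (g * t * g⁻¹) * (g * w * g⁻¹) = (g * w * g⁻¹) * (g * t * g⁻¹)
    calc (g * t * g⁻¹) * (g * w * g⁻¹) = g * (t * w) * g⁻¹ := by group
      _ = g * (w * t) * g⁻¹ := by rw [hc.eq]
      _ = _ := by group⟩

variable [Finite G] [IsSimpleGroup G]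

/-- no involution of `N(P)` centralises a non-trivial element of `P` -/
theorem not_commute_of_mem_normalizer (h : Nat.card G = 2520) [Fact (Nat.Prime 3)] (P : Sylow 3 G)
    {t w : G} (ht : orderOf t = 2) (hwP : w ∈ (P : Subgroup G)) (hw1 : w ≠ 1)
    (htN : t ∈ normalizer ((P : Subgroup G) : Set G)) (htw : Commute t w) : False := by
  have : Fact (Nat.Prime 2) := ⟨Nat.prime_two⟩
  have hG := not_comm h
  obtain ⟨hP9, hN36, hab⟩ := card_normalizer_three h P
  have hCt := (involution h).1 t ht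
  set N := normalizer ((P : Subgroup G) : Set G)
  have hc : ∀ u ∈ (P : Subgroup G), ∀ v ∈ (P : Subgroup G), Commute u v := fun u hu v hv =>
    congrArg Subtype.val (mul_comm' (⟨u, hu⟩ : (P : Subgroup G)) ⟨v, hv⟩)
  have hw3 : orderOf w = 3 := by
    have h1 := orderOf_dvd_natCard _ hwP
    have h2 := orderOf_dvd_natCard _ (mem_centralizer_singleton_iff.mpr htw.symm.eq :
      w ∈ centralizer ({t} : Set G))
    rw [hP9] at h1
    rw [hCt] at h2
    have h3 := Nat.dvd_gcd h1 h2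
    norm_num at h3
    exact ((Nat.dvd_prime (by norm_num)).mp h3).resolve_left fun e => hw1 (orderOf_eq_one_iff.mp e)
  have hW : zpowers w = (P : Subgroup G) ⊓ centralizer ({t} : Set G) := by
    refine eq_of_le_of_card_ge (zpowers_le.mpr ⟨hwP, mem_centralizer_singleton_iff.mpr htw.symm.eq⟩) ?_
    have h1 := card_dvd_of_le (inf_le_left : (P : Subgroup G) ⊓ centralizer ({t} : Set G) ≤ _)
    have h2 := card_dvd_of_le (inf_le_right : (P : Subgroup G) ⊓ centralizer ({t} : Set G) ≤ _)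
    rw [hP9] at h1
    rw [hCt] at h2
    rw [Nat.card_zpowers, hw3]
    exact Nat.le_of_dvd (by norm_num) (by simpa using Nat.dvd_gcd h1 h2)
  -- `N(P)/P` has order four, so it is commutative
  set K := (P : Subgroup G).subgroupOf N
  have hK : K.index = 4 := by
    have := K.card_mul_index
    rw [Nat.card_congr (subgroupOfEquivOfLe le_normalizer).toEquiv, hP9, hN36] at this
    omega
  have hnorm : ∀ n ∈ N, n * w * n⁻¹ ∈ zpowers w := by
    intro n hn
    have hq : Nat.card (N ⧸ K) = 2 ^ 2 := by rw [← index_eq_card, hK]; norm_num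
    have := IsPGroup.isMulCommutative_of_card_eq_prime_sq hq
    have hp : (⟨n, hn⟩ : N) * ⟨t, htN⟩ * (⟨n, hn⟩ : N)⁻¹ * (⟨t, htN⟩ : N)⁻¹ ∈ K := by
      rw [← QuotientGroup.eq_one_iff]
      simp only [QuotientGroup.mk_mul, QuotientGroup.mk_inv]
      rw [mul_comm' (QuotientGroup.mk (⟨n, hn⟩ : N) : N ⧸ K), mul_assoc (QuotientGroup.mk (⟨t, htN⟩ : N) : N ⧸ K),
        mul_inv_cancel, mul_one, mul_inv_cancel]
    rw [mem_subgroupOf] at hp
    simp only [Subgroup.coe_mul, Subgroup.coe_inv] at hp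
    have hwn : n * w * n⁻¹ ∈ (P : Subgroup G) := (mem_normalizer_iff.mp hn w).mp hwP
    rw [hW]
    refine ⟨hwn, mem_centralizer_singleton_iff.mpr ?_⟩
    have h1 : Commute (n * w * n⁻¹) (n * t * n⁻¹) := by
      show _ = _
      calc (n * w * n⁻¹) * (n * t * n⁻¹) = n * (w * t) * n⁻¹ := by group
        _ = n * (t * w) * n⁻¹ := by rw [htw.eq]
        _ = _ := by group
    have h2 : Commute (n * w * n⁻¹) ((n * t * n⁻¹ * t⁻¹)⁻¹ * (n * t * n⁻¹)) :=
      (hc _ hwn _ hp).inv_right.mul_right h1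
    rw [show (n * t * n⁻¹ * t⁻¹)⁻¹ * (n * t * n⁻¹) = t by group] at h2
    exact h2.eq
  set M := N ⊓ centralizer ({w} : Set G)
  obtain ⟨n₀, hn₀, hn₀w⟩ : ∃ n₀ ∈ N, n₀ * w * n₀⁻¹ = w⁻¹ := by
    by_contra hno
    push Not at hno
    exact hw1 (eq_one_of_abelian_fixed hG P hab hwP fun n hn =>
      (conj_eq_or_inv hw3 (hnorm n hn)).resolve_right (hno n hn))
  have hne : n₀ ∉ centralizer ({w} : Set G) := fun hm => by
    rw [mem_centralizer_singleton_iff.mp hm, mul_inv_cancel_right] at hn₀w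
    have h2 : w * w = 1 := by rw [mul_eq_one_iff_eq_inv]; exact hn₀w
    have := orderOf_dvd_of_pow_eq_one (show w ^ 2 = 1 by rw [pow_two, h2])
    rw [hw3] at this
    norm_num at this
  have hPM : (P : Subgroup G) ≤ M := le_inf le_normalizer fun u hu =>
    mem_centralizer_singleton_iff.mpr (hc u hu w hwP).eq
  have hM : Nat.card M = 18 := by
    have h1 := card_dvd_of_le hPM
    have h2 := orderOf_dvd_natCard _ (show t ∈ M from ⟨htN, mem_centralizer_singleton_iff.mpr htw.eq⟩)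
    have h3 := card_dvd_of_le (inf_le_left : M ≤ N)
    have h4 := card_le_two_mul hw3 hnorm
    rw [hP9] at h1
    rw [ht] at h2
    rw [hN36] at h3 h4
    have h5 : Nat.card M ≠ 36 := fun e =>
      hne ((eq_of_le_of_card_ge (inf_le_left : M ≤ N) (by rw [e, hN36])).ge hn₀).2
    have key : ∀ m < 37, 2 ∣ m → 9 ∣ m → m ∣ 36 → m ≠ 36 → m = 18 := by decide
    exact key _ (Nat.lt_succ_of_le (Nat.le_of_dvd (by norm_num) h3)) h2 h1 h3 h5
  set C := centralizer ({w} : Set G)
  set Nw := normalizer (zpowers w : Set G)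
  have hCN : C ≤ Nw := by
    rw [show C = _ from (centralizer_zpowers w).symm]; exact centralizer_le_normalizer _
  have hwNw : ∀ g ∈ Nw, g * w * g⁻¹ ∈ zpowers w := fun g hg =>
    (mem_normalizer_iff.mp hg w).mp (mem_zpowers w)
  have hn₀Nw : n₀ ∈ Nw := by
    refine mem_normalizer_iff.mpr fun a => ⟨?_, ?_⟩
    · intro ha
      obtain ⟨i, rfl⟩ := mem_zpowers_iff.mp ha
      rw [← conj_zpow, hn₀w]
      exact zpow_mem (inv_mem (mem_zpowers w)) i
    · intro ha
      obtain ⟨i, hi⟩ := mem_zpowers_iff.mp ha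
      rw [show a = w ^ (-i) from ?_]
      · exact zpow_mem (mem_zpowers w) _
      · apply (MulAut.conj n₀).injective
        rw [map_zpow, MulAut.conj_apply, MulAut.conj_apply, hn₀w, inv_zpow', neg_neg, hi]
  have hNw2 : Nat.card Nw ≤ 2 * Nat.card C := (card_le_two_mul hw3 hwNw).trans
    (Nat.mul_le_mul_left 2 (card_le_of_le inf_le_right))
  have hCdvd := card_dvd_of_le hCN
  have hCne : Nat.card C ≠ Nat.card Nw := fun e => hne ((eq_of_le_of_card_ge hCN e.ge).ge hn₀Nw)
  have hNw : Nat.card Nw = 2 * Nat.card C := by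
    obtain ⟨j, hj⟩ := hCdvd
    have : 0 < Nat.card C := Nat.card_pos
    have hj2 : j ≤ 2 := Nat.le_of_mul_le_mul_left (by rw [← hj, mul_comm]; exact hNw2) this
    interval_cases j
    · have : 0 < Nat.card Nw := Nat.card_pos
      omega
    · omega
    · omega
  have hC : Nat.card C = 18 := by
    have h1 := card_dvd_of_le (inf_le_right : M ≤ C)
    rw [hM] at h1
    have h2 := dvd_seventy_two h (Or.inr hw3)
    set P' := P.subtype (hPM.trans inf_le_right)
    have h3 := card_normalizer_mul_card_sylow P'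
    rw [P.coe_subtype (hPM.trans inf_le_right), ← subgroupOf_normalizer_eq (hPM.trans inf_le_right),
      ← inf_subgroupOf_right, Nat.card_congr (subgroupOfEquivOfLe inf_le_right).toEquiv] at h3
    change Nat.card M * _ = _ at h3
    rw [hM] at h3
    have h4 : Nat.card (Sylow 3 C) % 3 = 1 := (card_sylow_modEq_one 3 C : _)
    have h5 : Nat.card Nw ∣ 2520 := h ▸ card_subgroup_dvd_card Nw
    rw [hNw] at h5
    change 18 * _ = Nat.card C at h3
    rw [← h3] at h2 h5 ⊢
    have h6 : Nat.card (Sylow 3 C) ≤ 4 :=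
      Nat.le_of_mul_le_mul_left (Nat.le_of_dvd (by norm_num) h2 : _ ≤ 18 * 4) (by norm_num)
    generalize Nat.card (Sylow 3 C) = m at h2 h4 h5 h6 h1 h3 ⊢
    have key : ∀ m ≤ 4, 18 * m ∣ 72 → m % 3 = 1 → 2 * (18 * m) ∣ 2520 → 18 * m = 18 := by decide
    exact key m h6 h2 h4 h5
  -- an element of `C(t)` inverts `w`
  have hMC : M = C := eq_of_le_of_card_ge inf_le_right (by rw [hM, hC])
  obtain ⟨m, hm, hmt⟩ : ∃ m ∈ C, m * t * m⁻¹ = n₀ * t * n₀⁻¹ := by
    have hT : ∀ T : Sylow 2 C, Nat.card (T : Subgroup C) = 2 := fun T => by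
      rw [card_sylow_subgroup (p := 2) (e := 1) (m := 9) (by rw [hC]; norm_num) (by norm_num) T, pow_one]
    refine exists_conj_of_sylow_two hT (mem_centralizer_singleton_iff.mpr htw.eq) ?_ ht
      ((orderOf_injective (MulAut.conj n₀).toMonoidHom (MulAut.conj n₀).injective t).trans ht)
    refine mem_centralizer_singleton_iff.mpr (inv_injective ?_)
    calc (n₀ * t * n₀⁻¹ * w)⁻¹ = (n₀ * w * n₀⁻¹) * (n₀ * t * n₀⁻¹)⁻¹ := by rw [hn₀w]; group
      _ = n₀ * (w * t⁻¹) * n₀⁻¹ := by group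
      _ = n₀ * (t⁻¹ * w) * n₀⁻¹ := by rw [htw.inv_left.eq]
      _ = (n₀ * t * n₀⁻¹)⁻¹ * (n₀ * w * n₀⁻¹) := by group
      _ = _ := by rw [hn₀w]; group
  set k := m⁻¹ * n₀ with hk
  have hkt : k ∈ centralizer ({t} : Set G) := by
    refine mem_centralizer_singleton_iff.mpr (mul_inv_eq_iff_eq_mul.mp ?_)
    calc k * t * k⁻¹ = m⁻¹ * (n₀ * t * n₀⁻¹) * m := by rw [hk]; group
      _ = t := by rw [← hmt]; group
  have hkN : k ∈ Nw := mul_mem (inv_mem (hCN hm)) hn₀Nw
  have hkC : k ∉ C := fun e => hne (by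
    have := mul_mem hm e
    rwa [hk, ← mul_assoc, mul_inv_cancel, one_mul] at this)
  set D := Nw ⊓ centralizer ({t} : Set G)
  have hD : 12 ≤ Nat.card D := by
    have hle : C ⊓ centralizer ({t} : Set G) ≤ D := inf_le_inf_right _ hCN
    have h1 := orderOf_dvd_natCard _ (show t ∈ C ⊓ centralizer ({t} : Set G) from
      ⟨mem_centralizer_singleton_iff.mpr htw.eq, mem_centralizer_self t⟩)
    have h2 := orderOf_dvd_natCard _ (show w ∈ C ⊓ centralizer ({t} : Set G) from
      ⟨mem_centralizer_self w, mem_centralizer_singleton_iff.mpr htw.symm.eq⟩)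
    rw [ht] at h1
    rw [hw3] at h2
    obtain ⟨j, hj⟩ := card_dvd_of_le hle
    have h3 : Nat.card ↥(C ⊓ centralizer ({t} : Set G)) ≠ Nat.card D := fun e =>
      hkC ((eq_of_le_of_card_ge hle e.ge).ge ⟨hkN, hkt⟩).1
    have h4 := Nat.le_of_dvd Nat.card_pos
      (Nat.Coprime.mul_dvd_of_dvd_of_dvd (by norm_num : Nat.Coprime 2 3) h1 h2)
    have h5 : 2 ≤ j := by
      by_contra hj'
      interval_cases j
      · have : 0 < Nat.card D := Nat.card_pos
        omega
      · omega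
    calc 12 = 6 * 2 := by norm_num
      _ ≤ _ * j := Nat.mul_le_mul h4 h5
      _ = _ := hj.symm
  have hle := (unique_three hCt hw3 (mem_centralizer_singleton_iff.mpr htw.symm.eq) hD).1
  have h24 := card_dvd_of_le hle
  rw [hCt, hNw, hC] at h24
  norm_num at h24

/-- the centraliser of an element of `InA` -/
theorem exists_four (h : Nat.card G = 2520) {w : G} (hw : InA w) :
    Nat.card (centralizer ({w} : Set G)) = 36 ∧
      ∃ V : Subgroup G, Nat.card V = 4 ∧ V ≤ centralizer ({w} : Set G) ∧ (∀ u ∈ V, u * u = 1) ∧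
        (∀ g : G, Commute g w → g ^ 4 = 1 → g ∈ V) ∧
        ∀ u ∈ V, u ≠ 1 → ∀ u' ∈ V, u' ≠ 1 → ∃ p, Commute p w ∧ p * u * p⁻¹ = u' := by
  classical
  have : Fact (Nat.Prime 3) := ⟨Nat.prime_three⟩
  have : Fact (Nat.Prime 2) := ⟨Nat.prime_two⟩
  obtain ⟨hw3, t, ht, htw⟩ := hw
  obtain ⟨P, hwP'⟩ := (IsPGroup.of_card (p := 3) (n := 1)
    (show Nat.card (zpowers w) = 3 ^ 1 by rw [Nat.card_zpowers, hw3, pow_one])).exists_le_sylow
  have hwP : w ∈ (P : Subgroup G) := hwP' (mem_zpowers w)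
  have hw1 : w ≠ 1 := fun e => by simp [e] at hw3
  obtain ⟨hP9, hN36, hab⟩ := card_normalizer_three h P
  set C := centralizer ({w} : Set G)
  have hPC : (P : Subgroup G) ≤ C := fun u hu => mem_centralizer_singleton_iff.mpr
    (congrArg Subtype.val (mul_comm' (⟨u, hu⟩ : (P : Subgroup G)) ⟨w, hwP⟩))
  set M := normalizer ((P : Subgroup G) : Set G) ⊓ C
  have hM : Nat.card M = 9 := by
    have h1 := card_dvd_of_le (le_inf le_normalizer hPC : (P : Subgroup G) ≤ M)
    have h2 := card_dvd_of_le (inf_le_left : M ≤ normalizer ((P : Subgroup G) : Set G))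
    rw [hP9] at h1
    rw [hN36] at h2
    have h3 : ¬ 2 ∣ Nat.card M := fun hd => by
      obtain ⟨s, hs⟩ := exists_prime_orderOf_dvd_card' (G := M) 2 hd
      exact not_commute_of_mem_normalizer h P (by rw [orderOf_coe]; exact hs) hwP hw1 s.2.1
        (mem_centralizer_singleton_iff.mp s.2.2)
    have key : ∀ m < 37, 9 ∣ m → m ∣ 36 → ¬ 2 ∣ m → m = 9 := by decide
    exact key _ (Nat.lt_succ_of_le (Nat.le_of_dvd (by norm_num) h2)) h1 h2 h3
  have hn := card_normalizer_mul_card_sylow (P.subtype hPC)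
  rw [P.coe_subtype hPC, ← subgroupOf_normalizer_eq hPC, ← inf_subgroupOf_right,
    Nat.card_congr (subgroupOfEquivOfLe inf_le_right).toEquiv] at hn
  change Nat.card M * _ = Nat.card C at hn
  rw [hM] at hn
  have hmod : Nat.card (Sylow 3 C) % 3 = 1 := (card_sylow_modEq_one 3 C : _)
  have h72 := dvd_seventy_two h (Or.inr hw3)
  have h2C := orderOf_dvd_natCard _ (show t ∈ C from mem_centralizer_singleton_iff.mpr htw.eq)
  rw [ht, ← hn] at h2C
  rw [← hn] at h72
  have hle8 : Nat.card (Sylow 3 C) ≤ 8 := by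
    have := Nat.le_of_dvd (by norm_num) h72
    omega
  have hn4 : Nat.card (Sylow 3 C) = 4 := by
    interval_cases Nat.card (Sylow 3 C) <;> omega
  have hC : Nat.card C = 36 := by rw [← hn, hn4]
  refine ⟨hC, ?_⟩
  obtain ⟨W, hW4, hWC, hCW⟩ := exists_le_normalizer_complement (e := 2) hPC
    (by rw [hP9]; norm_num) hab (t := 4) (by rw [hC]; norm_num) hn4
  have hmem : ∀ g : G, Commute g w → g ^ 4 = 1 → g ∈ W := by
    intro g hgw hg4
    set g' : C := ⟨g, mem_centralizer_singleton_iff.mpr hgw.eq⟩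
    have hg' : g' ^ 4 = 1 := Subtype.ext (by rw [SubgroupClass.coe_pow]; exact hg4)
    have hW' : Nat.card (W.subgroupOf C) = 2 ^ 2 := by
      rw [Nat.card_congr (subgroupOfEquivOfLe hWC).toEquiv, hW4]; norm_num
    have : (W.subgroupOf C).Normal := (normal_subgroupOf_iff_le_normalizer hWC).mpr hCW
    obtain ⟨T, hT⟩ := (IsPGroup.of_card hW').exists_le_sylow
    have hTc : ∀ T : Sylow 2 C, Nat.card (T : Subgroup C) = 2 ^ 2 := fun T =>
      card_sylow_subgroup (p := 2) (e := 2) (m := 9) (by rw [hC]; norm_num) (by norm_num) T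
    have hTe : W.subgroupOf C = (T : Subgroup C) := eq_of_le_of_card_ge hT (by rw [hTc, hW'])
    have hgp : IsPGroup 2 (zpowers g') := by
      obtain ⟨k, -, hk⟩ := (Nat.dvd_prime_pow Nat.prime_two).mp
        (show orderOf g' ∣ 2 ^ 2 from orderOf_dvd_of_pow_eq_one (by norm_num [hg']))
      exact IsPGroup.of_card (n := k) (by rw [Nat.card_zpowers, hk])
    obtain ⟨U, hU⟩ := hgp.exists_le_sylow
    obtain ⟨c, hc⟩ := MulAction.exists_smul_eq C T U
    have hTn : (T : Subgroup C).Normal := hTe ▸ inferInstance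
    rw [Sylow.smul_eq_of_normal] at hc
    have := hU (mem_zpowers g')
    rw [← hc, ← hTe] at this
    exact this
  have hconj : ∀ p ∈ C, ∀ u ∈ W, p * u * p⁻¹ ∈ W := fun p hp u hu =>
    (mem_normalizer_iff.mp (hCW hp) u).mp hu
  -- the Sylow subgroup moves every involution of the four group
  have hmove : ∀ u : G, orderOf u = 2 → ¬ ∀ p ∈ (P : Subgroup G), p * u * p⁻¹ = u := by
    intro u hu hall
    have h1 := card_dvd_of_le (show (P : Subgroup G) ≤ centralizer ({u} : Set G) from fun p hp =>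
      mem_centralizer_singleton_iff.mpr (mul_inv_eq_iff_eq_mul.mp (hall p hp)))
    rw [hP9, (involution h).1 u hu] at h1
    norm_num at h1
  have hexp : ∀ u ∈ W, u * u = 1 := by
    intro u hu
    by_contra hne
    have h4 : orderOf u ∣ 4 := hW4 ▸ orderOf_dvd_natCard _ hu
    have ho : orderOf u = 4 := by
      have h42 : ∀ n, n ≤ 4 → n ∣ 4 → n = 1 ∨ n = 2 ∨ n = 4 := by decide
      rcases h42 _ (Nat.le_of_dvd (by norm_num) h4) h4 with e | e | e
      · exact absurd (by rw [orderOf_eq_one_iff.mp e, one_mul]) hne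
      · exact absurd (by rw [← pow_two, ← e, pow_orderOf_eq_one]) hne
      · exact e
    have hz : orderOf (u * u) = 2 := orderOf_eq_prime (by
      rw [pow_two, ← mul_assoc]
      have : u ^ 4 = 1 := ho ▸ pow_orderOf_eq_one u
      rw [← this]; simp only [pow_succ, pow_zero, one_mul]) hne
    have hWu : zpowers u = W := eq_of_le_of_card_ge (zpowers_le.mpr hu)
      (by rw [Nat.card_zpowers, ho, hW4])
    refine hmove _ hz fun p hp => ?_
    obtain ⟨i, hi⟩ := mem_zpowers_iff.mp (hWu.symm ▸ hconj p (hPC hp) u hu : p * u * p⁻¹ ∈ zpowers u)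
    refine eq_of_mem_zpowers_two hz ?_ (fun e => hne (conj_eq_one_iff.mp e))
    rw [show p * (u * u) * p⁻¹ = (p * u * p⁻¹) * (p * u * p⁻¹) by group, ← hi, ← zpow_add]
    exact ⟨i, ((Commute.refl u).mul_zpow i).trans (zpow_add u i i).symm⟩
  refine ⟨W, hW4, hWC, hexp, hmem, fun u hu hu1 u' hu' hu'1 => ?_⟩
  by_cases heq : u = u'
  · exact ⟨1, Commute.one_left w, by rw [heq, one_mul, inv_one, mul_one]⟩
  have ho2 : ∀ x ∈ W, x ≠ 1 → orderOf x = 2 := fun x hx hx1 =>
    orderOf_eq_prime (by rw [pow_two, hexp x hx]) hx1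
  obtain ⟨p, hp, hpu⟩ : ∃ p ∈ (P : Subgroup G), p * u * p⁻¹ ≠ u := by
    by_contra hno
    push Not at hno
    exact hmove u (ho2 u hu hu1) hno
  have hpC : Commute p w := mem_centralizer_singleton_iff.mp (hPC hp)
  by_cases h1 : p * u * p⁻¹ = u'
  · exact ⟨p, hpC, h1⟩
  set v₁ := p * u * p⁻¹ with hv₁
  set v₂ := p * v₁ * p⁻¹ with hv₂
  have hv₁W : v₁ ∈ W := hconj p (hPC hp) u hu
  have hv₂W : v₂ ∈ W := hconj p (hPC hp) v₁ hv₁W
  by_cases h2 : v₂ = u'
  · exact ⟨p * p, hpC.mul_left hpC, by rw [← h2, hv₂, hv₁]; group⟩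
  exfalso
  have h21 : v₂ ≠ v₁ := fun e => hpu (by
    rw [hv₂, hv₁] at e
    exact mul_left_cancel (mul_right_cancel e))
  have hv₁1 : v₁ ≠ 1 := fun e => hu1 (conj_eq_one_iff.mp e)
  have hv₂1 : v₂ ≠ 1 := fun e => hv₁1 (conj_eq_one_iff.mp e)
  have h2u : v₂ ≠ u := fun e => hpu (by
    have hcu : Commute (p * p) u := mul_inv_eq_iff_eq_mul.mp
      (show p * p * u * (p * p)⁻¹ = u by rw [mul_inv_rev]; rw [hv₂, hv₁] at e; simpa [mul_assoc] using e)
    have h9 : p ^ 9 = 1 := by
      have := congrArg Subtype.val (pow_card_eq_one' (x := (⟨p, hp⟩ : (P : Subgroup G))))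
      rwa [hP9, SubgroupClass.coe_pow] at this
    have hp5 : (p * p) ^ 5 = p := by
      rw [← pow_two, ← pow_mul, show 2 * 5 = 9 + 1 from rfl, pow_succ, h9, one_mul]
    have := hcu.pow_left 5
    rw [hp5] at this
    rw [hv₁, this.eq, mul_inv_cancel_right])
  have hcard : ({⟨1, one_mem W⟩, ⟨u, hu⟩, ⟨u', hu'⟩, ⟨v₁, hv₁W⟩, ⟨v₂, hv₂W⟩} : Finset W).card = 5 := by
    simp [Finset.card_insert_of_notMem, Subtype.ext_iff, Ne.symm hu1, Ne.symm hu'1, Ne.symm hv₁1,
      Ne.symm hv₂1, heq, Ne.symm hpu, Ne.symm h2u, Ne.symm h1, Ne.symm h2, Ne.symm h21]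
  let : Fintype W := Fintype.ofFinite W
  have := Finset.card_le_univ ({⟨1, one_mem W⟩, ⟨u, hu⟩, ⟨u', hu'⟩, ⟨v₁, hv₁W⟩, ⟨v₂, hv₂W⟩} : Finset W)
  rw [hcard, ← Nat.card_eq_fintype_card (α := W), hW4] at this
  omega

theorem sq_eq_one_of_commute (h : Nat.card G = 2520) {w g : G} (hw : InA w) (hgw : Commute g w)
    (hg : g ^ 4 = 1) : g * g = 1 := by
  obtain ⟨-, V, -, -, hexp, hmem, -⟩ := exists_four h hw
  exact hexp g (hmem g hgw hg)

/-- the elements of order three centralising an involution -/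
theorem exists_three (h : Nat.card G = 2520) {t : G} (ht : orderOf t = 2) :
    ∃ y, InA y ∧ Commute t y ∧ (∀ x, orderOf x = 3 → Commute t x → x = y ∨ x = y⁻¹) ∧
      ∃ k, Commute k t ∧ k * y * k⁻¹ = y⁻¹ := by
  classical
  have : Fact (Nat.Prime 3) := ⟨Nat.prime_three⟩
  have hCt := (involution h).1 t ht
  set H := centralizer ({t} : Set G)
  obtain ⟨y₀, hy₀⟩ := exists_prime_orderOf_dvd_card' (G := H) 3 (by rw [hCt]; norm_num)
  set y : G := (y₀ : G) with hydef
  have hy3 : orderOf y = 3 := by rw [hydef, orderOf_coe, hy₀]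
  have hty : Commute t y := (mem_centralizer_singleton_iff.mp y₀.2).symm
  have hA : InA y := ⟨hy3, t, ht, hty⟩
  obtain ⟨hC, V, hV4, hVC, hexp, hmem, -⟩ := exists_four h hA
  have htV : t ∈ V := hmem t hty (by rw [show 4 = 2 * 2 from rfl, pow_mul, ← ht, pow_orderOf_eq_one, one_pow])
  set M := centralizer ({y} : Set G) ⊓ H
  have hVM : V ≤ M := fun u hu => ⟨hVC hu, mem_centralizer_singleton_iff.mpr (by
    have h1 := hexp _ (mul_mem hu htV)
    have hu2 := hexp u hu
    have ht2 := hexp t htV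
    calc u * t = (u * t)⁻¹ := eq_inv_of_mul_eq_one_left h1
      _ = t * u := by rw [mul_inv_rev, ← eq_inv_of_mul_eq_one_left hu2, ← eq_inv_of_mul_eq_one_left ht2])⟩
  have h12 : 12 ∣ Nat.card M := by
    have h1 := card_dvd_of_le hVM
    have h2 := orderOf_dvd_natCard _ (show y ∈ M from ⟨mem_centralizer_self y, y₀.2⟩)
    rw [hV4] at h1
    rw [hy3] at h2
    exact Nat.Coprime.mul_dvd_of_dvd_of_dvd (by norm_num : Nat.Coprime 4 3) h1 h2
  have hCN : centralizer ({y} : Set G) ≤ normalizer (zpowers y : Set G) := by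
    rw [← centralizer_zpowers y]; exact centralizer_le_normalizer _
  have hge : 12 ≤ Nat.card ↥(normalizer (zpowers y : Set G) ⊓ H) :=
    (Nat.le_of_dvd Nat.card_pos h12).trans (card_le_of_le (inf_le_inf_right _ hCN))
  obtain ⟨hnorm, huniq⟩ := unique_three hCt hy3 y₀.2 hge
  refine ⟨y, hA, hty, fun x hx hxt => huniq x (mem_centralizer_singleton_iff.mpr hxt.symm.eq) hx, ?_⟩
  by_contra hno
  push Not at hno
  have hle : H ≤ centralizer ({y} : Set G) := fun k hk => by
    have h1 := (conj_eq_or_inv hy3 ((mem_normalizer_iff.mp (hnorm hk) y).mp (mem_zpowers y))).resolve_right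
      (hno k (mem_centralizer_singleton_iff.mp hk))
    exact mem_centralizer_singleton_iff.mpr (mul_inv_eq_iff_eq_mul.mp h1)
  have := card_dvd_of_le hle
  rw [hCt, hC] at this
  norm_num at this

theorem eq_or_inv_of_commute (h : Nat.card G = 2520) {t x y : G} (ht : orderOf t = 2)
    (hx : orderOf x = 3) (hy : orderOf y = 3) (htx : Commute t x) (hty : Commute t y) :
    x = y ∨ x = y⁻¹ := by
  obtain ⟨z, -, -, huniq, -⟩ := exists_three h ht
  rcases huniq x hx htx with rfl | rfl <;> rcases huniq y hy hty with rfl | rfl <;> simp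

theorem isConj_inA (h : Nat.card G = 2520) {v w : G} (hv : InA v) (hw : InA w) : IsConj v w := by
  obtain ⟨hv3, t, ht, htv⟩ := hv
  obtain ⟨hw3, s, hs, hsw⟩ := hw
  obtain ⟨y, hA, hsy, huniq, k, hks, hk⟩ := exists_three h hs
  obtain ⟨g, hg⟩ := isConj_iff.mp ((involution h).2 t s ht hs)
  have hgv : orderOf (g * v * g⁻¹) = 3 :=
    (orderOf_injective (MulAut.conj g).toMonoidHom (MulAut.conj g).injective v).trans hv3
  have hcv : Commute s (g * v * g⁻¹) := by
    rw [← hg]
    show _ = _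
    calc (g * t * g⁻¹) * (g * v * g⁻¹) = g * (t * v) * g⁻¹ := by group
      _ = g * (v * t) * g⁻¹ := by rw [htv.eq]
      _ = _ := by group
  have hyy : IsConj y y⁻¹ := isConj_iff.mpr ⟨k, hk⟩
  have hall : ∀ x, orderOf x = 3 → Commute s x → IsConj y x := fun x hx hc =>
    (huniq x hx hc).elim (fun e => e ▸ IsConj.refl y) (fun e => e ▸ hyy)
  exact (isConj_iff.mpr ⟨g, rfl⟩).trans ((hall _ hgv hcv).symm.trans (hall w hw3 hsw))

theorem exists_inA (h : Nat.card G = 2520) : ∃ w : G, InA w := by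
  have : Fact (Nat.Prime 2) := ⟨Nat.prime_two⟩
  obtain ⟨t, ht⟩ := exists_prime_orderOf_dvd_card' (G := G) 2 (by rw [h]; norm_num)
  obtain ⟨y, hy, -⟩ := exists_three h ht
  exact ⟨y, hy⟩

theorem card_inA (h : Nat.card G = 2520) : Nat.card {g : G // InA g} = 70 := by
  obtain ⟨w, hw⟩ := exists_inA h
  have h1 := card_isConj_class w
  rw [(exists_four h hw).1, h] at h1
  rw [show Nat.card {g : G // InA g} = Nat.card {g : G // IsConj w g} from
    Nat.card_congr (Equiv.subtypeEquivRight fun g => ⟨fun hg => isConj_inA h hw hg, fun hg => by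
      obtain ⟨c, rfl⟩ := isConj_iff.mp hg
      exact hw.conj c⟩)]
  omega

theorem isConj_inv_inA (h : Nat.card G = 2520) {w : G} (hw : InA w) : IsConj w w⁻¹ :=
  isConj_inA h hw hw.inv

end Cfsg.Agent.SmallOrders.S2520
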