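-- Character values on elements of order three centralising a four group.
--
-- * `exists_mult`: the multiplicities of the characters of `C₃ × V`
-- * `exists_row`: integral values, satisfying `rowBool`
-- * `card_product_involution`: five products with a given element of order five are involutions
import Cfsg.Agent.Lib.SmallOrders.Order2520.Three
import Cfsg.Agent.Lib.Char.Linear

set_option autoImplicit false

open scoped ComplexConjugate

namespace Cfsg.Agent.SmallOrders.S2520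

open Subgroup BlockDegrees Cfsg Cfsg.Agent.Blocks Cfsg.Agent.CyclicDefect

/-- the homomorphism from the group of order three determined by an element -/
def threeHom {M : Type*} [Monoid M] (x : M) (hx : x ^ 3 = 1) : Multiplicative (ZMod 3) →* M where
  toFun i := x ^ i.toAdd.val
  map_one' := by simp
  map_mul' a b := by
    rw [toAdd_mul, ZMod.val_add, ← pow_eq_pow_mod _ hx, pow_add]

theorem sum_three (F : Multiplicative (ZMod 3) → ℂ) :
    ∑ i, F i = F (Multiplicative.ofAdd 0) + F (Multiplicative.ofAdd 1) + F (Multiplicative.ofAdd 2) := by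
  rw [Fintype.sum_equiv Multiplicative.toAdd F (fun i => F (Multiplicative.ofAdd i)) fun _ => rfl]
  exact Fin.sum_univ_three fun i => F (Multiplicative.ofAdd (i : ZMod 3))

theorem exists_mult {G : Type*} [Group G] [Finite G] {χ : G → ℂ} (hχ : IsCharacter G χ) {w : G}
    (hw : orderOf w = 3) (V : Subgroup G) (hV : Nat.card V = 4) (hexp : ∀ u ∈ V, u * u = 1)
    (hcomm : ∀ u ∈ V, Commute u w) (hv : χ (w ^ 2) = χ w) {t z : ℂ}
    (hT : ∀ u ∈ V, u ≠ 1 → χ u = t ∧ χ (w * u) = z ∧ χ (w ^ 2 * u) = z) :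
    ∃ m₁ m₂ m₃ m₄ : ℕ, ((m₁ : ℂ) + 2 * m₂) * 4 = χ 1 + 3 * t ∧
      ((m₃ : ℂ) + 2 * m₄) * 4 = χ 1 - t ∧ χ w = (m₁ : ℂ) - m₂ + 3 * ((m₃ : ℂ) - m₄) := by
  classical
  have : Fintype V := Fintype.ofFinite V
  have hw3 : w ^ 3 = 1 := hw ▸ pow_orderOf_eq_one w
  let f : Multiplicative (ZMod 3) × V →* G :=
    MonoidHom.noncommCoprod (threeHom w hw3) V.subtype fun i u => ((hcomm u u.2).symm.pow_left _)
  have hres : IsCharacter (Multiplicative (ZMod 3) × V) fun q => χ (f q) :=
    Char.IsCharacter.comp_hom hχ f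
  have hf : ∀ i u, f (i, u) = w ^ i.toAdd.val * (u : G) := fun i u => rfl
  obtain ⟨u₀, hu₀, hu₀1⟩ : ∃ u₀ ∈ V, u₀ ≠ 1 := by
    by_contra hno
    push Not at hno
    rw [eq_bot_iff_forall V |>.mpr hno, Nat.card_eq_fintype_card] at hV
    simp at hV
  set Z := zpowers (⟨u₀, hu₀⟩ : V)
  have hZ : Nat.card Z = 2 := by
    rw [Nat.card_zpowers, ← orderOf_coe]
    exact orderOf_eq_prime (by rw [pow_two]; exact hexp u₀ hu₀) hu₀1
  have hidx : Z.index = 2 := by
    have := Z.card_mul_index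
    rw [hZ, hV] at this
    omega
  let μ : V →* ℂ :=
    { toFun := fun u => if u ∈ Z then 1 else -1
      map_one' := if_pos (one_mem Z)
      map_mul' := fun a b => by
        show (if a * b ∈ Z then (1 : ℂ) else -1) = _
        have hab := mul_mem_iff_of_index_two hidx (a := a) (b := b)
        by_cases ha : a ∈ Z <;> by_cases hb : b ∈ Z <;> simp [ha, hb, hab] }
  have hμsum : ∑ u : V, μ u = 0 := by
    obtain ⟨u₁, hu₁⟩ : ∃ u₁ : V, u₁ ∉ Z := by
      by_contra hno
      push Not at hno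
      rw [show Z = ⊤ from (eq_top_iff' Z).mpr hno, index_top] at hidx
      omega
    have h1 : μ u₁ * ∑ u : V, μ u = ∑ u : V, μ u := by
      rw [Finset.mul_sum]
      exact Fintype.sum_equiv (Equiv.mulLeft u₁) _ _ fun u => (map_mul μ u₁ u).symm
    rw [show μ u₁ = -1 from if_neg hu₁] at h1
    linear_combination -(1 / 2 : ℂ) * h1
  have hμconj : ∀ u, conj (μ u) = μ u := fun u => by
    show conj (if u ∈ Z then (1 : ℂ) else -1) = if u ∈ Z then (1 : ℂ) else -1
    split_ifs <;> simp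
  set ω : ℂ := Complex.exp (2 * Real.pi * Complex.I / 3)
  have hω : IsPrimitiveRoot ω 3 := Complex.isPrimitiveRoot_exp 3 (by norm_num)
  have hω3 : ω ^ 3 = 1 := hω.pow_eq_one
  have hωsum : 1 + ω + ω ^ 2 = 0 := by
    have := hω.geom_sum_eq_zero (by norm_num)
    simpa [Finset.sum_range_succ] using this
  have hωc : conj ω + conj (ω ^ 2) = -1 := by
    have := congrArg (starRingEnd ℂ) hωsum
    simp only [map_add, map_one, map_zero] at this
    linear_combination this
  -- one inner product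
  have key : ∀ (l : Multiplicative (ZMod 3) →* ℂ) (ν : V →* ℂ), (∀ u, conj (ν u) = ν u) →
      ∃ m : ℕ, (m : ℂ) * 12 =
        (χ 1 + t * (∑ u : V, ν u - 1)) +
          (conj (l (Multiplicative.ofAdd 1)) + conj (l (Multiplicative.ofAdd 2))) *
            (χ w + z * (∑ u : V, ν u - 1)) := by
    intro l ν hν
    let L : Multiplicative (ZMod 3) × V →* ℂ :=
      (l.comp (MonoidHom.fst _ _)) * (ν.comp (MonoidHom.snd _ _))
    obtain ⟨m, hm⟩ := Char.IsCharacter.classInner_nat hres (Char.isCharacter_of_hom L)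
    refine ⟨m, ?_⟩
    have hcard : (Nat.card (Multiplicative (ZMod 3) × V) : ℂ) = 12 := by
      rw [Nat.card_prod, hV, show Nat.card (Multiplicative (ZMod 3)) = 3 from
        (Nat.card_congr Multiplicative.toAdd).trans (Nat.card_zmod 3)]
      norm_num
    have h1 := Char.card_mul_classInner (fun q => χ (f q)) ⇑L
    rw [hm, hcard, Fintype.sum_prod_type] at h1
    rw [mul_comm, h1]
    have hsum : ∀ (i : Multiplicative (ZMod 3)) (a b : ℂ), χ (w ^ i.toAdd.val) = a →
        (∀ u ∈ V, u ≠ 1 → χ (w ^ i.toAdd.val * u) = b) →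
        ∑ u : V, χ (f (i, u)) * conj (L (i, u)) = conj (l i) * (a + b * (∑ u : V, ν u - 1)) := by
      intro i a b ha hb
      have e : ∀ u : V, χ (f (i, u)) * conj (L (i, u)) =
          conj (l i) * (b * ν u + if u = 1 then a - b else 0) := fun u => by
        rw [show L (i, u) = l i * ν u from rfl, map_mul, hν, hf]
        by_cases hu : u = 1
        · rw [if_pos hu, hu, map_one, OneMemClass.coe_one, mul_one, ha]; ring
        · rw [if_neg hu, hb u u.2 (fun e' => hu (Subtype.ext e'))]; ring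
      rw [Finset.sum_congr rfl fun u _ => e u, ← Finset.mul_sum, Finset.sum_add_distrib, ← Finset.mul_sum,
        Finset.sum_ite_eq' Finset.univ (1 : V), if_pos (Finset.mem_univ _)]
      ring
    have v1 : (Multiplicative.ofAdd (1 : ZMod 3)).toAdd.val = 1 := rfl
    have v2 : (Multiplicative.ofAdd (2 : ZMod 3)).toAdd.val = 2 := rfl
    rw [sum_three, hsum _ (χ 1) t (by simp) (fun u hu hu1 => by simpa using (hT u hu hu1).1),
      hsum _ (χ w) z (by rw [v1, pow_one]) (fun u hu hu1 => by rw [v1, pow_one]; exact (hT u hu hu1).2.1),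
      hsum _ (χ w) z (by rw [v2, hv]) (fun u hu hu1 => by rw [v2]; exact (hT u hu hu1).2.2),
      show Multiplicative.ofAdd (0 : ZMod 3) = 1 from rfl, map_one, map_one]
    ring
  have h4 : ∑ u : V, (1 : V →* ℂ) u = 4 := by
    simp only [MonoidHom.one_apply, Finset.sum_const, Finset.card_univ, nsmul_eq_mul, mul_one,
      ← Nat.card_eq_fintype_card, hV]
    norm_num
  have hl1 : threeHom ω hω3 (Multiplicative.ofAdd 1) = ω := pow_one ω
  have hl2 : threeHom ω hω3 (Multiplicative.ofAdd 2) = ω ^ 2 := rfl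
  obtain ⟨m₁, e₁⟩ := key 1 1 (fun u => by simp)
  obtain ⟨m₂, e₂⟩ := key (threeHom ω hω3) 1 (fun u => by simp)
  obtain ⟨m₃, e₃⟩ := key 1 μ hμconj
  obtain ⟨m₄, e₄⟩ := key (threeHom ω hω3) μ hμconj
  rw [hl1, hl2, hωc] at e₂ e₄
  rw [h4] at e₁ e₂
  rw [hμsum] at e₃ e₄
  simp only [MonoidHom.one_apply, map_one] at e₁ e₃
  exact ⟨m₁, m₂, m₃, m₄, by linear_combination e₁ / 3 + 2 * e₂ / 3,
    by linear_combination e₃ / 3 + 2 * e₄ / 3,
    by linear_combination -e₁ / 12 + e₂ / 12 - e₃ / 4 + e₄ / 4⟩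

variable {G : Type*} [Group G] [Finite G] [IsSimpleGroup G]

/-- the values on `w` are integers, with the multiplicities of `rowBool` -/
theorem exists_row (h : Nat.card G = 2520) {w t : G} (hw : InA w) (ht : orderOf t = 2)
    (χ : IrrCharacter G) :
    ∃ v : ℤ, (χ : G → ℂ) w = v ∧ ∀ (σ u : ℤ), (σ = 1 ∨ σ = -1) → (χ : G → ℂ) t = u →
      rowBool (σ * (charDegree (χ : G → ℂ) : ℤ)) (σ * u) (σ * v) = true := by
  obtain ⟨-, V, hV4, hVC, hexp, -, htrans⟩ := exists_four h hw
  have hcl : ∀ a b : G, IsConj a b → (χ : G → ℂ) a = (χ : G → ℂ) b := fun a b hab => by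
    obtain ⟨g, rfl⟩ := isConj_iff.mp hab
    exact (Char.IsCharacter.isClassFunction (Char.IsIrrCharacter.isCharacter χ.2) a g).symm
  have hcomm : ∀ u ∈ V, Commute u w := fun u hu => mem_centralizer_singleton_iff.mp (hVC hu)
  obtain ⟨u₀, hu₀, hu₀1⟩ : ∃ u₀ ∈ V, u₀ ≠ 1 := by
    by_contra hno
    push Not at hno
    rw [eq_bot_iff_forall V |>.mpr hno] at hV4
    simp at hV4
  have hw2 : w ^ 2 = w⁻¹ := eq_inv_of_mul_eq_one_left (by
    rw [← pow_succ]
    show w ^ (3 : ℕ) = 1
    rw [← hw.1]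
    exact pow_orderOf_eq_one w)
  have hwinv : IsConj w (w ^ 2) := hw2 ▸ isConj_inv_inA h hw
  have hT : ∀ u ∈ V, u ≠ 1 → (χ : G → ℂ) u = (χ : G → ℂ) t ∧
      (χ : G → ℂ) (w * u) = (χ : G → ℂ) (w * u₀) ∧ (χ : G → ℂ) (w ^ 2 * u) = (χ : G → ℂ) (w * u₀) := by
    intro u hu hu1
    have hu2 : orderOf u = 2 := orderOf_eq_prime (by rw [pow_two, hexp u hu]) hu1
    obtain ⟨p, hpw, hpu⟩ := htrans u₀ hu₀ hu₀1 u hu hu1
    have e1 : (χ : G → ℂ) (w * u) = (χ : G → ℂ) (w * u₀) := by
      refine (hcl _ _ (isConj_iff.mpr ⟨p, ?_⟩)).symm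
      rw [← hpu]
      calc p * (w * u₀) * p⁻¹ = (p * w) * (u₀ * p⁻¹) := by group
        _ = (w * p) * (u₀ * p⁻¹) := by rw [hpw.eq]
        _ = w * (p * u₀ * p⁻¹) := by group
    refine ⟨hcl _ _ ((involution h).2 u t hu2 ht), e1, ?_⟩
    obtain ⟨y, -, -, huniq, k, hku, hky⟩ := exists_three h hu2
    have hkw : k * w * k⁻¹ = w⁻¹ := by
      rcases huniq w hw.1 (hcomm u hu) with rfl | rfl
      · exact hky
      · rw [← conj_inv, hky]
    rw [← e1]
    refine (hcl _ _ (isConj_iff.mpr ⟨k, ?_⟩)).symm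
    rw [hw2, ← hkw]
    calc k * (w * u) * k⁻¹ = (k * w) * (u * k⁻¹) := by group
      _ = (k * w * k⁻¹) * ((k * u) * k⁻¹) := by group
      _ = _ := by rw [hku.eq, mul_inv_cancel_right]
  obtain ⟨m₁, m₂, m₃, m₄, e1, e2, e3⟩ := exists_mult (Char.IsIrrCharacter.isCharacter χ.2) hw.1 V hV4
    hexp hcomm (hcl _ _ hwinv).symm hT
  refine ⟨(m₁ : ℤ) - m₂ + 3 * ((m₃ : ℤ) - m₄), by rw [e3]; push_cast; rfl, fun σ u hσ hu => ?_⟩
  rw [hu, ← charDegree_cast] at e1 e2
  have f1 : ((m₁ : ℤ) + 2 * m₂) * 4 = (charDegree (χ : G → ℂ) : ℤ) + 3 * u := by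
    apply Int.cast_injective (α := ℂ)
    push_cast
    exact e1
  have f2 : ((m₃ : ℤ) + 2 * m₄) * 4 = (charDegree (χ : G → ℂ) : ℤ) - u := by
    apply Int.cast_injective (α := ℂ)
    push_cast
    exact e2
  have hd : 0 < charDegree (χ : G → ℂ) := charDegree_pos χ
  generalize charDegree (χ : G → ℂ) = d at f1 f2 hd ⊢
  have hs : (σ * (d : ℤ)).sign = σ ∧ (σ * (d : ℤ)).natAbs = d := by
    rcases hσ with rfl | rfl
    · exact ⟨by rw [one_mul]; exact Int.sign_eq_one_of_pos (by exact_mod_cast hd), by simp⟩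
    · exact ⟨by rw [neg_one_mul]; exact Int.sign_eq_neg_one_of_neg (by omega), by simp⟩
  have hss : ∀ a : ℤ, σ * (σ * a) = a := fun a => by rcases hσ with rfl | rfl <;> ring
  simp only [rowBool, Bool.and_eq_true, decide_eq_true_eq, List.any_eq_true, hs.1, hs.2, hss]
  refine ⟨⟨by omega, by omega⟩, m₂, List.mem_range.mpr (by omega), m₄, List.mem_range.mpr (by omega), ?_⟩
  omega

/-- five products with a given element of order five are involutions -/
theorem card_product_involution (h : Nat.card G = 2520) {f : G} (hf : orderOf f = 5) :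
    Nat.card {x : G // InA x ∧ (x * f) ^ 2 = 1} = 5 := by
  classical
  have : Fact (Nat.Prime 2) := ⟨Nat.prime_two⟩
  obtain ⟨w, hw⟩ := exists_inA h
  obtain ⟨t, ht⟩ := exists_prime_orderOf_dvd_card' (G := G) 2 (by rw [h]; norm_num)
  obtain ⟨L, A, E, σ, ε, χe, u, l, hB⟩ := exists_block_list h hf ht
  have hC24 := (involution h).1 t ht
  have hex : ∃ a, IsConj t a ∧ a * f * a⁻¹ = f⁻¹ := by
    rcases card_centralizer_two h hf ht with ⟨-, he⟩ | ⟨h72, -⟩
    · exact he
    · rw [hC24] at h72; norm_num at h72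
  choose v hv hrow using fun χ : IrrCharacter G => exists_row h hw ht χ
  have := Fintype.ofFinite G
  have := Fintype.ofFinite (IrrCharacter G)
  have hmw : Nat.card {x : G // IsConj w x} = 70 := by
    rw [← card_inA h]
    exact Nat.card_congr (Equiv.subtypeEquivRight fun g => ⟨fun hg => by
      obtain ⟨c, rfl⟩ := isConj_iff.mp hg
      exact hw.conj c, fun hg => isConj_inA h hw hg⟩)
  have hmt : Nat.card {x : G // IsConj t x} = 105 := by
    have := card_isConj_class t
    rw [hC24, h] at this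
    omega
  have hbij : Nat.card {x : G // InA x ∧ (x * f) ^ 2 = 1} =
      Nat.card {q : G × G // IsConj w q.1 ∧ IsConj t q.2 ∧ q.1 * q.2 = f} := by
    refine Nat.card_congr
      { toFun := fun x => ⟨(x.1⁻¹, x.1 * f), isConj_inA h hw x.2.1.inv,
          (involution h).2 t _ ht (orderOf_eq_prime x.2.2 fun e => ?_), inv_mul_cancel_left _ _⟩
        invFun := fun q => ⟨q.1.1⁻¹, ?_, ?_⟩
        left_inv := fun x => Subtype.ext (inv_inv _)
        right_inv := fun q => Subtype.ext (Prod.ext (inv_inv _) ?_) }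
    · have h1 := x.2.1.1
      rw [show x.1 = f⁻¹ from eq_inv_of_mul_eq_one_left e, orderOf_inv, hf] at h1
      norm_num at h1
    · obtain ⟨c, hc⟩ := isConj_iff.mp q.2.1
      exact hc ▸ (hw.conj c).inv
    · obtain ⟨c, hc⟩ := isConj_iff.mp q.2.2.1
      have h1 : q.1.1⁻¹ * f = q.1.2 := inv_mul_eq_iff_eq_mul.mpr q.2.2.2.symm
      have h2 : c * t * c⁻¹ * (c * t * c⁻¹) = c * (t * t) * c⁻¹ := by group
      rw [h1, ← hc, pow_two, h2, ← pow_two, ← ht, pow_orderOf_eq_one, mul_one, mul_inv_cancel]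
    · show q.1.1⁻¹ * f = q.1.2
      exact inv_mul_eq_iff_eq_mul.mpr q.2.2.2.symm
  have hcard : Nat.card (K f L) = 1 := hB.cardK
  have := Fintype.ofFinite (K f L)
  have : Subsingleton (K f L) := Finite.card_le_one_iff_subsingleton.mp hcard.le
  have hf1 : ∀ χ : IrrCharacter G, (χ : G → ℂ) (f * (((1 : K f L) : L) : G)) = (χ : G → ℂ) f :=
    fun χ => by rw [OneMemClass.coe_one, OneMemClass.coe_one, mul_one]
  have hwreg : ¬ 5 ∣ orderOf w := by rw [hw.1]; norm_num
  have hD := hB.data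
  have hεε : ε * ε = 1 := by rcases hD.signE with e | e <;> simp [e]
  have hεC : (ε : ℂ) * ε = 1 := by exact_mod_cast hεε
  have hrelw : ε * v χe = 1 + ∑ χ ∈ A, σ χ * v χ := by
    apply Int.cast_injective (α := ℂ)
    have := hD.rel w hwreg χe hB.mem
    simp only [hv] at this
    push_cast
    exact this
  have hEv : ∀ χ ∈ E, v χ = v χe := fun χ hχ => by
    have e := (hD.rel w hwreg χ hχ).trans (hD.rel w hwreg χe hB.mem).symm
    have e' := mul_left_cancel₀ (left_ne_zero_of_mul_eq_one hεC) e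
    rw [hv, hv] at e'
    exact_mod_cast e'
  have hrelt : ε * u χe = 1 + ∑ χ ∈ A, σ χ * u χ := by
    apply Int.cast_injective (α := ℂ)
    have := hD.rel t (by rw [ht]; norm_num) χe hB.mem
    simp only [hB.val] at this
    push_cast
    exact this
  set d : IrrCharacter G → ℕ := fun χ => charDegree (χ : G → ℂ) with hd
  set y := 1 + (l.map Prod.fst).sum with hy
  set us := l.map fun q => σ q.2 * u q.2 with hus
  set vs := l.map fun q => σ q.2 * v q.2 with hvs
  have hsum : (l.map fun q => σ q.2 * u q.2).sum = ∑ χ ∈ A, σ χ * u χ := sum_of_coe hB.coe _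
  have hsumv : (l.map fun q => σ q.2 * v q.2).sum = ∑ χ ∈ A, σ χ * v χ := sum_of_coe hB.coe _
  -- the class formula
  set S := insert (oneChar G) (A ∪ E) with hSdef
  have hone_not : oneChar G ∉ A ∪ E := fun e =>
    (Finset.mem_union.mp e).elim hD.one_notA hD.one_notE
  have hval : ∀ g : G, ∀ z : ℤ, (oneChar G : G → ℂ) g = z → z = 1 := fun g z e => by
    rw [show (oneChar G : G → ℂ) g = 1 from rfl] at e
    exact_mod_cast e.symm
  have hformula : (Nat.card {x : G // InA x ∧ (x * f) ^ 2 = 1} : ℤ) * (2520 * 2520) =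
      7350 * pairSum y (l.map Prod.fst) us vs := by
    have hdiv : ∀ z : ℤ, z.natAbs ∣ 2520 → (((2520 : ℤ) / z : ℤ) : ℂ) = 2520 / (z : ℂ) := fun z hz => by
      have h0 : (z : ℂ) ≠ 0 := Int.cast_ne_zero.mpr fun e' => by simp [e'] at hz
      have hdvd : z ∣ (2520 : ℤ) := Int.natAbs_dvd.mp (by exact_mod_cast hz)
      rw [Int.cast_div hdvd h0]
      norm_num
    have hps : pairSum y (l.map Prod.fst) us vs = 2520 +
        ∑ χ ∈ A, σ χ * u χ * (σ χ * v χ) * (2520 / (σ χ * (d χ : ℤ))) -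
        ε * u χe * (ε * v χe) * (2520 / (ε * (d χe : ℤ))) := by
      rw [pairSum, hus, hvs, List.zip_map', List.zip_map', List.map_map, sum_of_coe hB.coe, hsum,
        hsumv, ← hrelt, ← hrelw, hy, hB.deg]
      rfl
    apply Int.cast_injective (α := ℂ)
    push_cast
    rw [hbij, Char.class_mult_formula, hmw, hmt, h, hps]
    push_cast
    have eA : ∀ χ ∈ A, (σ χ : ℂ) * (u χ : ℂ) * ((σ χ : ℂ) * (v χ : ℂ)) * (((2520 : ℤ) / (σ χ * (d χ : ℤ)) : ℤ) : ℂ) =
        (σ χ : ℂ) * (u χ : ℂ) * ((σ χ : ℂ) * (v χ : ℂ)) * (2520 / ((σ χ * (d χ : ℤ) : ℤ) : ℂ)) :=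
      fun χ hχ => by
        rw [hdiv _ (by
          have : (σ χ * (d χ : ℤ)).natAbs = d χ := by rcases hD.sign χ hχ with e | e <;> simp [e]
          rw [this, ← h]; exact charDegree_dvd_card χ)]
    rw [hdiv _ (by
        have : (ε * (d χe : ℤ)).natAbs = d χe := by rcases hD.signE with e | e <;> simp [e]
        rw [this, ← h]; exact charDegree_dvd_card χe), Finset.sum_congr rfl eA]
    have hrest : ∀ χ ∈ Finset.univ, χ ∉ S →
        (χ : G → ℂ) w * (χ : G → ℂ) t * conj ((χ : G → ℂ) f) / (χ : G → ℂ) 1 = 0 := fun χ _ hχ => by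
      simp only [hSdef, Finset.mem_insert, Finset.mem_union, not_or] at hχ
      have e := hD.other χ hχ.1 hχ.2.1 hχ.2.2
      rw [Fintype.sum_subsingleton _ (1 : K f L), hf1] at e
      rw [e, map_zero, mul_zero, zero_div]
    rw [← Finset.sum_subset (Finset.subset_univ S) hrest,
      hSdef, Finset.sum_insert hone_not, Finset.sum_union hD.disj]
    have e1 : ∑ χ ∈ A, (χ : G → ℂ) w * (χ : G → ℂ) t * conj ((χ : G → ℂ) f) / (χ : G → ℂ) 1 =
        (∑ χ ∈ A, (σ χ : ℂ) * (u χ : ℂ) * ((σ χ : ℂ) * (v χ : ℂ)) *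
          (2520 / ((σ χ * (d χ : ℤ) : ℤ) : ℂ))) / 2520 := by
      rw [Finset.sum_div]
      refine Finset.sum_congr rfl fun χ hχ => ?_
      rw [← hf1 χ, hD.valA χ hχ 1, hv χ, hB.val χ, map_intCast, ← charDegree_cast]
      rcases hD.sign χ hχ with e | e <;> rw [e] <;> push_cast [hd] <;> ring
    have e2 : ∑ χ ∈ E, (χ : G → ℂ) w * (χ : G → ℂ) t * conj ((χ : G → ℂ) f) / (χ : G → ℂ) 1 =
        -((ε : ℂ) * (u χe : ℂ) * ((ε : ℂ) * (v χe : ℂ)) *
          (2520 / ((ε * (d χe : ℤ) : ℤ) : ℂ))) / 2520 := by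
      have e4 : ∀ χ ∈ E, (χ : G → ℂ) w * (χ : G → ℂ) t * conj ((χ : G → ℂ) f) / (χ : G → ℂ) 1 =
          (v χe : ℂ) * (u χe : ℂ) / (d χe : ℂ) * conj ((χ : G → ℂ) (f * (((1 : K f L) : L) : G))) :=
        fun χ hχ => by
          rw [hv χ, hB.val χ, ← charDegree_cast, hf1, hEv χ hχ, (hB.eqE χ hχ).2, (hB.eqE χ hχ).1]
          simp only [hd]
          ring
      rw [Finset.sum_congr rfl e4, ← Finset.mul_sum, ← map_sum, hD.valE 1, map_neg, map_intCast]
      rcases hD.signE with e | e <;> rw [e] <;> push_cast <;> ring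
    rw [e1, e2, show (oneChar G : G → ℂ) w = 1 from rfl, show (oneChar G : G → ℂ) t = 1 from rfl,
      show (oneChar G : G → ℂ) f = 1 from rfl, show (oneChar G : G → ℂ) 1 = 1 from rfl, map_one]
    push_cast
    ring
  have hvsq : sqSum vs ≤ 36 := by
    have h1 : ∑ χ : IrrCharacter G, (v χ).natAbs ^ 2 = 36 := by
      apply Nat.cast_injective (R := ℂ)
      have h2 := Char.column_orth (G := G) w w
      rw [if_pos (IsConj.refl w), (exists_four h hw).1] at h2
      rw [← h2, Nat.cast_sum]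
      refine Finset.sum_congr rfl fun χ _ => ?_
      rw [hv χ, map_intCast, ← Int.cast_natCast, ← Int.cast_mul, Nat.cast_pow, Int.natAbs_sq, pow_two]
    have h2 : ∑ χ ∈ S, (v χ).natAbs ^ 2 ≤ 36 :=
      h1 ▸ Finset.sum_le_univ_sum_of_nonneg fun _ => Nat.zero_le _
    rw [hSdef, Finset.sum_insert hone_not, Finset.sum_union hD.disj, hval w _ (hv _)] at h2
    have h3 : ∑ χ ∈ E, (v χ).natAbs ^ 2 = (v χe).natAbs ^ 2 := by
      obtain ⟨a, ha⟩ := Finset.card_eq_one.mp (hD.cardE.trans (by norm_num : (5 - 1) / 4 = 1))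
      have hea : χe = a := Finset.mem_singleton.mp (ha ▸ hB.mem)
      rw [ha, Finset.sum_singleton, hea]
    rw [h3] at h2
    rw [sqSum, hvs, hsumv, ← hrelw, List.map_map, sum_of_coe hB.coe]
    have h4 : ∀ χ ∈ A, (σ χ * v χ).natAbs ^ 2 = (v χ).natAbs ^ 2 := fun χ hχ => by
      rcases hD.sign χ hχ with e | e <;> simp [e]
    simp only [Function.comp_apply]
    rw [Finset.sum_congr rfl h4, show (ε * v χe).natAbs = (v χe).natAbs by
      rcases hD.signE with e | e <;> simp [e]]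
    simpa [add_assoc] using h2
  have hus24 := hC24 ▸ hB.sq
  have hq : ∀ q ∈ l, q.2 ∈ A ∧ q.1 = σ q.2 * (d q.2 : ℤ) := fun q hq => by
    have : q ∈ A.val.map fun χ => (σ χ * (charDegree (χ : G → ℂ) : ℤ), χ) :=
      hB.coe ▸ Multiset.mem_coe.mpr hq
    obtain ⟨χ, hχ, rfl⟩ := Multiset.mem_map.mp this
    exact ⟨hχ, rfl⟩
  have hsmall : ∀ (g : IrrCharacter G → ℤ) (B : ℕ), sqSum (l.map fun q => σ q.2 * g q.2) ≤ B →
      ∀ q ∈ l, (σ q.2 * g q.2).natAbs ^ 2 < B := fun g B hle q hql => by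
    simp only [sqSum, List.map_map] at hle
    have h3 : (σ q.2 * g q.2).natAbs ^ 2 ≤ (l.map ((fun u => u.natAbs ^ 2) ∘ fun q => σ q.2 * g q.2)).sum :=
      List.le_sum_of_mem (List.mem_map.mpr ⟨q, hql, rfl⟩)
    omega
  have husmem : us ∈ choices ((l.map Prod.fst).map (uCand 24)) := by
    refine mem_choices ?_
    rw [hus, List.forall₂_map_left_iff, List.forall₂_map_right_iff, List.forall₂_same]
    intro q hql
    exact List.mem_filter.mpr ⟨hB.bound q hql, decide_eq_true (hsmall u 24 hus24 q hql)⟩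
  have hvsmem : vs ∈ choices (((l.map Prod.fst).zip us).map wCand) := by
    refine mem_choices ?_
    rw [hus, hvs, List.zip_map', List.forall₂_map_left_iff, List.forall₂_map_right_iff, List.forall₂_same]
    intro q hql
    obtain ⟨hqA, hq1⟩ := hq q hql
    have h36 : (σ q.2 * v q.2).natAbs < 7 := by
      have := hsmall v 36 hvsq q hql
      by_contra hge
      have := Nat.pow_le_pow_left (Nat.le_of_not_lt hge) 2
      omega
    refine List.mem_filter.mpr ⟨List.mem_map.mpr ⟨(σ q.2 * v q.2 + 6).toNat,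
      List.mem_range.mpr (by omega), by omega⟩, ?_⟩
    show rowBool q.1 (σ q.2 * u q.2) (σ q.2 * v q.2) = true
    rw [hq1]
    exact hrow q.2 (σ q.2) (u q.2) (hD.sign _ hqA) (hB.val _)
  have hexc : rowBool y (1 + us.sum) (1 + vs.sum) = true := by
    rw [hy, hB.deg, hus, hvs, hsum, hsumv, ← hrelt, ← hrelw]
    exact hrow χe ε (u χe) hD.signE (hB.val _)
  have hform : pairSum y (l.map Prod.fst) us us = 2880 := by
    obtain ⟨k, hk, heq, -, hk2⟩ := hB.form
    rw [hus, hy, heq, hC24]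
    rcases hk with rfl | rfl
    · exact absurd rfl (hk2 hex)
    · norm_num
  have hchk := threeCheck_true
  simp only [threeCheck, List.all_eq_true, Bool.or_eq_true, Bool.and_eq_true, decide_eq_true_eq,
    Bool.not_eq_true', Bool.and_eq_false_iff, decide_eq_false_iff_not] at hchk
  rcases hchk _ hB.sol us husmem with ((h1 | h1) | h1) | h1
  · rw [hB.exc] at h1; exact absurd h1 (by simp)
  · exact absurd hus24 h1
  · exact absurd hform h1
  rcases h1 vs hvsmem with ((h2 | h2) | h2) | h2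
  · rw [hexc] at h2; exact absurd h2 (by simp)
  · exact absurd hvsq h2
  · rw [h2] at hformula; omega
  · refine absurd (Int.emod_eq_zero_of_dvd ⟨(Nat.card {x : G // InA x ∧ (x * f) ^ 2 = 1} : ℤ), ?_⟩) h2
    linear_combination -hformula

end Cfsg.Agent.SmallOrders.S2520
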