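-- Embeddings of `A₅` in a simple group of order 2520.
--
-- * `Emb`: homomorphisms taking three-cycles into `InA`; `card_emb`: 2520 of them
-- * `exists_conj`: conjugation is transitive on them
-- * `card_common`: the common centraliser of two adjacent three-cycles has order three
import Cfsg.Agent.Lib.SmallOrders.Order2520.Values
import Cfsg.Agent.S3377

set_option autoImplicit false

namespace Cfsg.Agent.SmallOrders.S2520

open Subgroup Equiv

/-- the alternating group of degree five -/
abbrev A5 : Type := alternatingGroup (Fin 5)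

def c012 : A5 := ⟨swap 0 1 * swap 1 2, Perm.mem_alternatingGroup.mpr (by decide)⟩
def c013 : A5 := ⟨swap 0 1 * swap 1 3, Perm.mem_alternatingGroup.mpr (by decide)⟩
def c014 : A5 := ⟨swap 0 1 * swap 1 4, Perm.mem_alternatingGroup.mpr (by decide)⟩
def c234 : A5 := ⟨swap 2 3 * swap 3 4, Perm.mem_alternatingGroup.mpr (by decide)⟩
def t0123 : A5 := ⟨swap 0 1 * swap 2 3, Perm.mem_alternatingGroup.mpr (by decide)⟩
def t0213 : A5 := ⟨swap 0 2 * swap 1 3, Perm.mem_alternatingGroup.mpr (by decide)⟩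
def five0 : A5 := c012 * c012 * c013 * c014

/-- conjugation by a permutation -/
def permConj (σ : Perm (Fin 5)) : A5 →* A5 where
  toFun a := ⟨σ * (a : Perm (Fin 5)) * σ⁻¹,
    (inferInstance : (alternatingGroup (Fin 5)).Normal).conj_mem _ a.2 σ⟩
  map_one' := Subtype.ext (by simp)
  map_mul' a b := Subtype.ext (by simp [mul_assoc])

theorem coe_permConj (σ : Perm (Fin 5)) (a : A5) :
    (permConj σ a : Perm (Fin 5)) = σ * (a : Perm (Fin 5)) * σ⁻¹ := rfl

theorem lift_rels {H : Type*} [Group H] (x y : H) (hx : x ^ 3 = 1) (hy : y ^ 5 = 1)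
    (hxy : (x * y) ^ 2 = 1) :
    ∀ r ∈ ({FreeGroup.of (0 : Fin 2) ^ 3, FreeGroup.of (1 : Fin 2) ^ 5,
        (FreeGroup.of (0 : Fin 2) * FreeGroup.of 1) ^ 2} : Set (FreeGroup (Fin 2))),
      FreeGroup.lift ![x, y] r = 1 := by
  intro r hr
  simp only [Set.mem_insert_iff, Set.mem_singleton_iff] at hr
  rcases hr with rfl | rfl | rfl <;> simp [hx, hy, hxy]

variable {G : Type*} [Group G]

/-- homomorphisms taking a three-cycle to an element of `InA` -/
abbrev Emb (G : Type*) [Group G] : Type _ := {φ : A5 →* G // InA (φ c012)}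

theorem Emb.injective (φ : Emb G) : Function.Injective φ.1 := by
  rw [← MonoidHom.ker_eq_bot_iff]
  refine (φ.1.normal_ker.eq_bot_or_eq_top).resolve_right fun e => ?_
  have h1 : φ.1 c012 = 1 := MonoidHom.mem_ker.mp (e ▸ mem_top _)
  have h2 := φ.2.1
  rw [h1, orderOf_one] at h2
  norm_num at h2

theorem Emb.orderOf_apply (φ : Emb G) (a : A5) : orderOf (φ.1 a) = orderOf a :=
  orderOf_injective φ.1 φ.injective a

theorem Emb.inA_permConj (φ : Emb G) (σ : Perm (Fin 5)) : InA (φ.1 (permConj σ c012)) := by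
  have hs : (swap 3 4 : Perm (Fin 5)) * (c012 : Perm (Fin 5)) * (swap 3 4)⁻¹ = (c012 : Perm (Fin 5)) := by decide +kernel
  obtain ⟨g, hg⟩ : ∃ g : A5, g * c012 * g⁻¹ = permConj σ c012 := by
    rcases Int.units_eq_one_or (Perm.sign σ) with e | e
    · exact ⟨⟨σ, Perm.mem_alternatingGroup.mpr e⟩, Subtype.ext (by
        simp only [Subgroup.coe_mul, Subgroup.coe_inv, coe_permConj])⟩
    · refine ⟨⟨σ * swap 3 4, Perm.mem_alternatingGroup.mpr ?_⟩, Subtype.ext ?_⟩
      · rw [Perm.sign_mul, e, Perm.sign_swap (by decide +kernel)]; rfl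
      · simp only [Subgroup.coe_mul, Subgroup.coe_inv, coe_permConj]
        conv_rhs => rw [← hs]
        group
  rw [← hg, map_mul, map_mul, map_inv]
  exact φ.2.conj _

/-- precomposition with conjugation by a permutation -/
def Emb.perm (φ : Emb G) (σ : Perm (Fin 5)) : Emb G := ⟨φ.1.comp (permConj σ), φ.inA_permConj σ⟩

/-- composition with an inner automorphism -/
def Emb.conj (φ : Emb G) (g : G) : Emb G :=
  ⟨(MulAut.conj g).toMonoidHom.comp φ.1, φ.2.conj g⟩

theorem Emb.conj_apply (φ : Emb G) (g : G) (a : A5) : (φ.conj g).1 a = g * φ.1 a * g⁻¹ := rfl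

variable [Finite G] [IsSimpleGroup G]

theorem card_emb (h : Nat.card G = 2520) : Nat.card (Emb G) = 2520 := by
  classical
  obtain ⟨e⟩ := Cfsg.Agent.S3377.result
  set rels : Set (FreeGroup (Fin 2)) := {FreeGroup.of (0 : Fin 2) ^ 3, FreeGroup.of (1 : Fin 2) ^ 5,
        (FreeGroup.of (0 : Fin 2) * FreeGroup.of 1) ^ 2} with hrels
  let ψ : PresentedGroup rels →* A5 :=
    PresentedGroup.toGroup (lift_rels c012 five0 (by decide +kernel) (by decide +kernel) (by decide +kernel))
  have hψ0 : ψ (PresentedGroup.of 0) = c012 := PresentedGroup.toGroup.of _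
  have hψ1 : ψ (PresentedGroup.of 1) = five0 := PresentedGroup.toGroup.of _
  have : Finite (PresentedGroup rels) := Finite.of_equiv _ e.symm.toEquiv
  have : Nontrivial (PresentedGroup rels) := e.toEquiv.nontrivial
  have : IsSimpleGroup (PresentedGroup rels) := IsSimpleGroup.isSimpleGroup_of_surjective e.symm.toMonoidHom e.symm.surjective
  have hψinj : Function.Injective ψ := by
    rw [← MonoidHom.ker_eq_bot_iff]
    refine ψ.normal_ker.eq_bot_or_eq_top.resolve_right fun e' => ?_
    have : ψ (PresentedGroup.of 0) = 1 := MonoidHom.mem_ker.mp (e' ▸ mem_top _)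
    rw [hψ0] at this
    exact absurd this (by decide +kernel)
  have hψbij : Function.Bijective ψ :=
    (Nat.bijective_iff_injective_and_card _).mpr ⟨hψinj, Nat.card_congr e.toEquiv⟩
  let E := MulEquiv.ofBijective ψ hψbij
  have hE0 : E.symm c012 = PresentedGroup.of 0 := E.symm_apply_eq.mpr hψ0.symm
  have hE1 : E.symm five0 = PresentedGroup.of 1 := E.symm_apply_eq.mpr hψ1.symm
  let Q := Σ f : {g : G // orderOf g = 5}, {x : G // InA x ∧ (x * f.1) ^ 2 = 1}
  have hto : ∀ φ : Emb G, orderOf (φ.1 five0) = 5 := fun φ => by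
    rw [φ.orderOf_apply]
    exact orderOf_eq_prime (p := 5) (hp := ⟨by norm_num⟩) (by decide +kernel) (by decide +kernel)
  have hmul : ∀ φ : Emb G, (φ.1 c012 * φ.1 five0) ^ 2 = 1 := fun φ => by
    rw [← map_mul, ← map_pow, show (c012 * five0) ^ 2 = 1 by decide +kernel, map_one]
  have hpow : ∀ q : Q, q.2.1 ^ 3 = 1 ∧ q.1.1 ^ 5 = 1 := fun q =>
    ⟨orderOf_dvd_iff_pow_eq_one.mp (by rw [q.2.2.1.1]),
      orderOf_dvd_iff_pow_eq_one.mp (by rw [q.1.2])⟩
  let inv : Q → (A5 →* G) := fun q =>
    (PresentedGroup.toGroup (lift_rels q.2.1 q.1.1 (hpow q).1 (hpow q).2 q.2.2.2)).comp E.symm.toMonoidHom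
  have hinv0 : ∀ q : Q, inv q c012 = q.2.1 := fun q => by
    show PresentedGroup.toGroup (lift_rels q.2.1 q.1.1 (hpow q).1 (hpow q).2 q.2.2.2) (E.symm c012) = _
    rw [hE0]; exact PresentedGroup.toGroup.of _
  have hinv1 : ∀ q : Q, inv q five0 = q.1.1 := fun q => by
    show PresentedGroup.toGroup (lift_rels q.2.1 q.1.1 (hpow q).1 (hpow q).2 q.2.2.2) (E.symm five0) = _
    rw [hE1]; exact PresentedGroup.toGroup.of _
  have heq : Nat.card (Emb G) = Nat.card Q := Nat.card_congr
    { toFun := fun φ => ⟨⟨φ.1 five0, hto φ⟩, ⟨φ.1 c012, φ.2, hmul φ⟩⟩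
      invFun := fun q => ⟨inv q, by rw [hinv0]; exact q.2.2.1⟩
      left_inv := fun φ => by
        apply Subtype.ext
        apply MonoidHom.ext
        intro a
        obtain ⟨b, rfl⟩ := E.surjective a
        show PresentedGroup.toGroup (lift_rels (φ.1 c012) (φ.1 five0) (hpow ⟨⟨φ.1 five0, hto φ⟩, ⟨φ.1 c012, φ.2, hmul φ⟩⟩).1 (hpow ⟨⟨φ.1 five0, hto φ⟩, ⟨φ.1 c012, φ.2, hmul φ⟩⟩).2 (hmul φ)) (E.symm (E b)) = φ.1 (E b)
        rw [E.symm_apply_apply]
        refine DFunLike.congr_fun (PresentedGroup.ext (ψ := φ.1.comp ψ) fun i => ?_) b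
        rw [PresentedGroup.toGroup.of, MonoidHom.comp_apply]
        fin_cases i
        · exact (congrArg φ.1 hψ0).symm
        · exact (congrArg φ.1 hψ1).symm
      right_inv := fun ⟨⟨f, hf⟩, ⟨x, hx⟩⟩ => by
        have e1 := hinv1 ⟨⟨f, hf⟩, ⟨x, hx⟩⟩
        have e0 := hinv0 ⟨⟨f, hf⟩, ⟨x, hx⟩⟩
        simp only at e0 e1 ⊢
        refine Sigma.subtype_ext (Subtype.ext e1) e0 }
  rw [heq]
  let : Fintype {g : G // orderOf g = 5} := Fintype.ofFinite _
  rw [Nat.card_sigma, Finset.sum_congr rfl fun f _ => card_product_involution h f.2, Finset.sum_const,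
    Finset.card_univ, ← Nat.card_eq_fintype_card, card_sylow_five h]
  rfl

theorem eq_one_of_commute (h : Nat.card G = 2520) (φ : Emb G) {z : G}
    (hzf : Commute z (φ.1 five0)) (hzt : Commute z (φ.1 t0123)) : z = 1 := by
  have hf : orderOf (φ.1 five0) = 5 := by
    rw [φ.orderOf_apply]
    exact orderOf_eq_prime (p := 5) (hp := ⟨by norm_num⟩) (by decide +kernel) (by decide +kernel)
  have ht : orderOf (φ.1 t0123) = 2 := by
    rw [φ.orderOf_apply]
    exact orderOf_eq_prime (p := 2) (hp := ⟨by norm_num⟩) (by decide +kernel) (by decide +kernel)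
  have h1 := orderOf_dvd_of_centralizer (five h _ hf).1 hzf
  have h2 : orderOf z ∣ 24 := (involution h).1 _ ht ▸
    orderOf_dvd_natCard _ (mem_centralizer_singleton_iff.mpr hzt.eq)
  exact orderOf_eq_one_iff.mp (Nat.eq_one_of_dvd_coprimes (by norm_num : Nat.Coprime 5 24) h1 h2)

/-- conjugation is transitive -/
theorem exists_conj (h : Nat.card G = 2520) (φ φ' : Emb G) :
    ∃ g : G, ∀ a, φ'.1 a = g * φ.1 a * g⁻¹ := by
  classical
  have : Finite (Emb G) := Nat.finite_of_card_ne_zero (by rw [card_emb h]; norm_num)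
  have hinj : Function.Injective φ.conj := fun a b hab => by
    have : ∀ x, Commute (b⁻¹ * a) (φ.1 x) := fun x => by
      have e : a * φ.1 x * a⁻¹ = b * φ.1 x * b⁻¹ :=
        DFunLike.congr_fun (congrArg Subtype.val hab) x
      show b⁻¹ * a * φ.1 x = φ.1 x * (b⁻¹ * a)
      calc b⁻¹ * a * φ.1 x = b⁻¹ * (a * φ.1 x * a⁻¹) * a := by group
        _ = b⁻¹ * (b * φ.1 x * b⁻¹) * a := by rw [e]
        _ = φ.1 x * (b⁻¹ * a) := by group
    exact (inv_mul_eq_one.mp (eq_one_of_commute h φ (this _) (this _))).symm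
  obtain ⟨g, hg⟩ := ((Nat.bijective_iff_injective_and_card _).mpr
    ⟨hinj, by rw [card_emb h, h]⟩).2 φ'
  exact ⟨g, fun a => by rw [← hg, φ.conj_apply]⟩

theorem exists_emb (h : Nat.card G = 2520) : Nonempty (Emb G) :=
  (Nat.card_pos_iff.mp (by rw [card_emb h]; norm_num)).1

/-- the common centraliser of the images of `(0 1 2)` and `(0 1 3)` -/
theorem card_common (h : Nat.card G = 2520) (φ : Emb G) :
    Nat.card ↥(centralizer ({φ.1 c012} : Set G) ⊓ centralizer ({φ.1 c013} : Set G)) = 3 := by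
  set p := φ.1 c012
  set q := φ.1 c013
  set t := φ.1 t0123
  set v := φ.1 t0213
  have hord2 : ∀ a : A5, a ^ 2 = 1 → a ≠ 1 → orderOf (φ.1 a) = 2 := fun a ha ha1 => by
    rw [φ.orderOf_apply]
    exact orderOf_eq_prime (p := 2) (hp := ⟨by norm_num⟩) ha ha1
  have ht : orderOf t = 2 := hord2 t0123 (by decide +kernel) (by decide +kernel)
  have htt : t * t = 1 := by rw [← pow_two, ← ht, pow_orderOf_eq_one]
  obtain ⟨y, hyA, hty, huniq, -⟩ := exists_three h ht
  have hmove : ∀ {x z : G}, orderOf x = 3 → Commute t (z * x * z⁻¹) → z * x * z⁻¹ = y ∨ z * x * z⁻¹ = y⁻¹ :=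
    fun {x z} hx hc => huniq _
      ((orderOf_injective (MulAut.conj z).toMonoidHom (MulAut.conj z).injective x).trans hx) hc
  have hy1 : y ≠ y⁻¹ := fun e => by
    have h2 : y ^ 2 = 1 := by rw [pow_two, mul_eq_one_iff_eq_inv]; exact e
    have := orderOf_dvd_of_pow_eq_one h2
    rw [hyA.1] at this
    norm_num at this
  -- an element inducing the transposition `(0 1)`
  obtain ⟨d, hd⟩ := exists_conj h φ (φ.perm (swap 0 1))
  have hd' : ∀ a, d * φ.1 a * d⁻¹ = φ.1 (permConj (swap 0 1) a) := fun a => (hd a).symm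
  have hddc : ∀ a, Commute (d * d) (φ.1 a) := fun a => by
    refine mul_inv_eq_iff_eq_mul.mp ?_
    rw [show d * d * φ.1 a * (d * d)⁻¹ = d * (d * φ.1 a * d⁻¹) * d⁻¹ by group, hd', hd']
    congr 1
    apply Subtype.ext
    simp [coe_permConj, mul_assoc, swap_mul_self]
  have hdd : d * d = 1 := eq_one_of_commute h φ (hddc _) (hddc _)
  have hd1 : d ≠ 1 := fun e => by
    have e' := hd' c012
    rw [e, one_mul, inv_one, mul_one] at e'
    exact absurd (φ.injective e') (by decide +kernel)
  have hdo : orderOf d = 2 :=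
    orderOf_eq_prime (p := 2) (hp := ⟨by norm_num⟩) (by rw [pow_two, hdd]) hd1
  have hdt : Commute d t := mul_inv_eq_iff_eq_mul.mp
    (by rw [hd', show permConj (swap 0 1) t0123 = t0123 by decide +kernel])
  set u := φ.1 c234
  have hdu : Commute d u := mul_inv_eq_iff_eq_mul.mp
    (by rw [hd', show permConj (swap 0 1) c234 = c234 by decide +kernel])
  have hu3 : orderOf u = 3 := by
    rw [φ.orderOf_apply]
    exact orderOf_eq_prime (p := 3) (hp := ⟨by norm_num⟩) (by decide +kernel) (by decide +kernel)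
  have htu : ¬ Commute t u := fun e => by
    have e' : φ.1 (t0123 * c234) = φ.1 (c234 * t0123) := by rw [map_mul, map_mul]; exact e.eq
    exact absurd (φ.injective e') (by decide +kernel)
  have hdy : d * y * d⁻¹ = y⁻¹ := by
    have hc : Commute t (d * y * d⁻¹) := by
      have := hdt.symm
      exact (this.mul_right hty).mul_right this.inv_right
    refine (hmove hyA.1 hc).resolve_left fun e => ?_
    rcases eq_or_inv_of_commute h hdo hu3 hyA.1 hdu (mul_inv_eq_iff_eq_mul.mp e) with e' | e'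
    · exact htu (by rw [e']; exact hty)
    · exact htu (by rw [e']; exact hty.inv_right)
  have htv : Commute t v := by
    show φ.1 t0123 * φ.1 t0213 = φ.1 t0213 * φ.1 t0123
    rw [← map_mul, ← map_mul, show t0123 * t0213 = t0213 * t0123 by decide +kernel]
  have hvy : Commute v y := by
    have hc : Commute t (v * y * v⁻¹) := (htv.mul_right hty).mul_right htv.inv_right
    refine mul_inv_eq_iff_eq_mul.mp ((hmove hyA.1 hc).resolve_right fun e => ?_)
    have hc2 : Commute (v * d) y := mul_inv_eq_iff_eq_mul.mp (by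
      rw [show v * d * y * (v * d)⁻¹ = v * (d * y * d⁻¹) * v⁻¹ by group, hdy, ← conj_inv, e, inv_inv])
    have hsq : v * d * (v * d) = t := by
      have hvv : v * v = 1 := by
        show φ.1 t0213 * φ.1 t0213 = 1
        rw [← map_mul, show t0213 * t0213 = 1 by decide +kernel, map_one]
      have e3 : d * v * d⁻¹ = t * v := by
        rw [hd', show permConj (swap 0 1) t0213 = t0123 * t0213 by decide +kernel, map_mul]
      calc v * d * (v * d) = v * (d * v * d⁻¹) * (d * d) := by group
        _ = t := by rw [hdd, mul_one, e3, ← mul_assoc, ← htv.eq, mul_assoc, hvv, mul_one]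
    have h4 : (v * d) ^ 4 = 1 := by
      rw [show 4 = 2 * 2 from rfl, pow_mul, pow_two (v * d), hsq, pow_two, htt]
    have := sq_eq_one_of_commute h hyA hc2 h4
    rw [hsq] at this
    rw [this, orderOf_one] at ht
    norm_num at ht
  have hcycle : ∀ c : A5, c ^ 3 = 1 → (∃ b, (b = t0213 ∨ b = t0123 * t0213) ∧ c⁻¹ * t0123 * c = b) →
      Commute (φ.1 c) y := by
    rintro c hc3 ⟨b, hb, hcb⟩
    set x := φ.1 c
    have hby : Commute (φ.1 b) y := by
      rcases hb with rfl | rfl
      · exact hvy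
      · rw [map_mul]; exact hty.mul_left hvy
    have hc : Commute t (x * y * x⁻¹) := by
      have e : x⁻¹ * t * x = φ.1 b := by rw [← hcb, map_mul, map_mul, map_inv]
      rw [show t = x * φ.1 b * x⁻¹ by rw [← e]; group]
      exact (Commute.conj_iff x).mpr hby
    refine mul_inv_eq_iff_eq_mul.mp ((hmove hyA.1 hc).resolve_right fun e => hy1 ?_)
    have hx3 : x ^ 3 = 1 := by rw [← map_pow, hc3, map_one]
    calc y = x ^ 3 * y * (x ^ 3)⁻¹ := by rw [hx3]; group
      _ = x * (x * (x * y * x⁻¹) * x⁻¹) * x⁻¹ := by simp only [pow_succ, pow_zero]; group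
      _ = y⁻¹ := by rw [e, ← conj_inv, e, inv_inv, e]
  have hpy : Commute p y := hcycle c012 (by decide +kernel) ⟨_, Or.inl rfl, by decide +kernel⟩
  have hqy : Commute q y := hcycle c013 (by decide +kernel) ⟨_, Or.inr rfl, by decide +kernel⟩
  set K := centralizer ({p} : Set G) ⊓ centralizer ({q} : Set G)
  have hyK : y ∈ K := ⟨mem_centralizer_singleton_iff.mpr hpy.symm.eq,
    mem_centralizer_singleton_iff.mpr hqy.symm.eq⟩
  have hKt : K ≤ centralizer ({t} : Set G) := by
    intro z hz
    have h1 : Commute z p := mem_centralizer_singleton_iff.mp hz.1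
    have h2 : Commute z q := mem_centralizer_singleton_iff.mp hz.2
    refine mem_centralizer_singleton_iff.mpr ?_
    have e : t = p * q * q * p := by
      show φ.1 t0123 = φ.1 c012 * φ.1 c013 * φ.1 c013 * φ.1 c012
      rw [← map_mul, ← map_mul, ← map_mul, show c012 * c013 * c013 * c012 = t0123 by decide +kernel]
    rw [e]
    exact (((h1.mul_right h2).mul_right h2).mul_right h1).eq
  have hp3 : orderOf p = 3 := φ.2.1
  have hodd : ¬ 2 ∣ Nat.card K := fun hdvd => by
    have : Fact (Nat.Prime 2) := ⟨Nat.prime_two⟩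
    obtain ⟨s, hs⟩ := exists_prime_orderOf_dvd_card' (G := K) 2 hdvd
    have hso : orderOf (s : G) = 2 := by rw [orderOf_coe, hs]
    have hsp : Commute (s : G) p := mem_centralizer_singleton_iff.mp s.2.1
    have hst : Commute (s : G) t := mem_centralizer_singleton_iff.mp (hKt s.2)
    have hcp : orderOf (t * p * t⁻¹) = 3 :=
      (orderOf_injective (MulAut.conj t).toMonoidHom (MulAut.conj t).injective p).trans hp3
    have hc : Commute (s : G) (t * p * t⁻¹) := (hst.mul_right hsp).mul_right hst.inv_right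
    rcases eq_or_inv_of_commute h hso hcp hp3 hc hsp with e | e
    · have e' : φ.1 (t0123 * c012 * t0123⁻¹) = φ.1 c012 := by rw [map_mul, map_mul, map_inv]; exact e
      exact absurd (φ.injective e') (by decide +kernel)
    · have e' : φ.1 (t0123 * c012 * t0123⁻¹) = φ.1 c012⁻¹ := by
        rw [map_mul, map_mul, map_inv, map_inv]; exact e
      exact absurd (φ.injective e') (by decide +kernel)
  have h1 := card_dvd_of_le hKt
  rw [(involution h).1 t ht] at h1
  have h2 := card_dvd_of_le (inf_le_left : K ≤ centralizer ({p} : Set G))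
  rw [(exists_four h φ.2).1] at h2
  have h3 : 3 ∣ Nat.card K := hyA.1 ▸ orderOf_dvd_natCard _ hyK
  have key : ∀ m < 25, m ∣ 24 → m ∣ 36 → 3 ∣ m → ¬ 2 ∣ m → m = 3 := by decide
  exact key _ (Nat.lt_succ_of_le (Nat.le_of_dvd (by norm_num) h1)) h1 h2 h3 hodd

end Cfsg.Agent.SmallOrders.S2520
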