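-- A simple group of order 2520 is alternating of degree seven.
--
-- * `Tri`: triples of three-cycles with two common points
-- * `exists_orbit`: the four partners of a three-cycle
-- * `exists_five`, `nonempty_iso`
import Cfsg.Agent.Lib.SmallOrders.Order2520.Homs
import Cfsg.Agent.S3335
import Mathlib.GroupTheory.SpecificGroups.Alternating.Simple

set_option autoImplicit false

namespace Cfsg.Agent.SmallOrders.S2520

open Subgroup Equiv

variable {G : Type*} [Group G]

/-- images of `(0 1 2)`, `(0 1 3)`, `(0 1 4)` -/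
def Tri (p q r : G) : Prop := ∃ φ : Emb G, φ.1 c012 = p ∧ φ.1 c013 = q ∧ φ.1 c014 = r

theorem Tri.swap12 {p q r : G} (hT : Tri p q r) : Tri q p r := by
  obtain ⟨φ, rfl, rfl, rfl⟩ := hT
  refine ⟨φ.perm (swap 2 3), ?_, ?_, ?_⟩
  · exact congrArg φ.1 (show permConj (swap 2 3) c012 = c013 by decide +kernel)
  · exact congrArg φ.1 (show permConj (swap 2 3) c013 = c012 by decide +kernel)
  · exact congrArg φ.1 (show permConj (swap 2 3) c014 = c014 by decide +kernel)

theorem Tri.swap23 {p q r : G} (hT : Tri p q r) : Tri p r q := by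
  obtain ⟨φ, rfl, rfl, rfl⟩ := hT
  refine ⟨φ.perm (swap 3 4), ?_, ?_, ?_⟩
  · exact congrArg φ.1 (show permConj (swap 3 4) c012 = c012 by decide +kernel)
  · exact congrArg φ.1 (show permConj (swap 3 4) c013 = c014 by decide +kernel)
  · exact congrArg φ.1 (show permConj (swap 3 4) c014 = c013 by decide +kernel)

theorem Tri.conj {p q r : G} (hT : Tri p q r) (g : G) :
    Tri (g * p * g⁻¹) (g * q * g⁻¹) (g * r * g⁻¹) := by
  obtain ⟨φ, rfl, rfl, rfl⟩ := hT
  exact ⟨φ.conj g, rfl, rfl, rfl⟩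

/-- the image of `(0 1)(a b)` -/
def pairInv (a b : G) : G := a * b * b * a

theorem Tri.rels {a b c : G} (hT : Tri a b c) :
    a ^ 3 = 1 ∧ pairInv a b ^ 2 = 1 ∧ (a * pairInv a b) ^ 3 = 1 ∧ (a * pairInv b c) ^ 2 = 1 ∧
      (pairInv a b * pairInv b c) ^ 3 = 1 ∧ pairInv a b * c * pairInv a b = c⁻¹ := by
  obtain ⟨φ, rfl, rfl, rfl⟩ := hT
  simp only [pairInv, ← map_mul, ← map_pow, ← map_inv]
  refine ⟨?_, ?_, ?_, ?_, ?_, congrArg φ.1 (by decide +kernel)⟩
  all_goals exact (congrArg φ.1 (by decide +kernel)).trans φ.1.map_one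

theorem pairInv_far {a b c d : G} (h1 : Tri a b c) (h2 : Tri a b d) (h3 : Tri c d a) :
    (pairInv a b * pairInv c d) ^ 2 = 1 := by
  have e1 := h1.rels.2.2.2.2.2
  have e2 := h2.rels.2.2.2.2.2
  have hw : pairInv a b * pairInv a b = 1 := by rw [← pow_two]; exact h1.rels.2.1
  have hv : pairInv c d * pairInv c d = 1 := by rw [← pow_two]; exact h3.rels.2.1
  set w := pairInv a b
  have hconj : w * pairInv c d * w = pairInv c d := by
    calc w * pairInv c d * w
        = (w * c * w) * (w * d * w) * (w * d * w) * (w * c * w) := by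
          rw [pairInv]
          calc w * (c * d * d * c) * w = w * c * 1 * d * 1 * d * 1 * c * w := by group
            _ = w * c * (w * w) * d * (w * w) * d * (w * w) * c * w := by rw [hw]
            _ = _ := by group
      _ = (pairInv c d)⁻¹ := by rw [e1, e2, pairInv]; group
      _ = _ := inv_eq_of_mul_eq_one_right hv
  calc (w * pairInv c d) ^ 2 = (w * pairInv c d * w) * pairInv c d := by rw [pow_two]; group
    _ = 1 := by rw [hconj, hv]

variable [Finite G] [IsSimpleGroup G]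

/-- the partners of `p` containing `q` -/
theorem exists_orbit (h : Nat.card G = 2520) {p q r : G} (hT : Tri p q r) :
    ∃ O : Finset G, O.card = 4 ∧ q ∈ O ∧ p ∉ O ∧
      (∀ a ∈ O, ∀ b ∈ O, a ≠ b → Tri p a b) ∧ ∀ b, Tri p q b → b ∈ O := by
  classical
  obtain ⟨φ, rfl, rfl, rfl⟩ := hT
  set p := φ.1 c012 with hp
  set q := φ.1 c013 with hq
  set r := φ.1 c014 with hr
  have hpA : InA p := φ.2
  obtain ⟨hC, V, hV4, hVC, hexp, hmem, -⟩ := exists_four h hpA
  set C := centralizer ({p} : Set G)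
  set Y := C ⊓ centralizer ({q} : Set G)
  have hY : Nat.card Y = 3 := card_common h φ
  let : Fintype Y := Fintype.ofFinite Y
  let : Fintype V := Fintype.ofFinite V
  have hY3 : ∀ z ∈ Y, z ^ 3 = 1 := fun z hz => by
    have := congrArg Subtype.val (pow_card_eq_one' (x := (⟨z, hz⟩ : Y)))
    rwa [hY, SubgroupClass.coe_pow] at this
  have hYp : ∀ z ∈ Y, Commute z p := fun z hz => mem_centralizer_singleton_iff.mp hz.1
  have hYq : ∀ z ∈ Y, Commute z q := fun z hz => mem_centralizer_singleton_iff.mp hz.2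
  have hVp : ∀ v ∈ V, Commute v p := fun v hv => mem_centralizer_singleton_iff.mp (hVC hv)
  have hVconj : ∀ g : G, Commute g p → ∀ v ∈ V, g * v * g⁻¹ ∈ V := fun g hg v hv => by
    refine hmem _ ((hg.mul_left (hVp v hv)).mul_left hg.inv_left) ?_
    rw [conj_pow, show 4 = 2 * 2 from rfl, pow_mul, pow_two v, hexp v hv, one_pow, mul_one, mul_inv_cancel]
  have hpY : p ∉ Y := fun e => by
    have e' : φ.1 (c012 * c013) = φ.1 (c013 * c012) := by rw [map_mul, map_mul]; exact (hYq p e).eq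
    exact absurd (φ.injective e') (by decide +kernel)
  have hVY : ∀ v ∈ V, v ∈ Y → v = 1 := fun v hv hvY => by
    have := hY3 v hvY
    rwa [pow_succ, pow_two, hexp v hv, one_mul] at this
  -- the partners of the pair
  have hchar : ∀ b, Tri p q b → ∃ y ∈ Y, b = y * r * y⁻¹ := by
    rintro b ⟨φ', h1, h2, h3⟩
    obtain ⟨g, hg⟩ := exists_conj h φ φ'
    refine ⟨g, ⟨mem_centralizer_singleton_iff.mpr (mul_inv_eq_iff_eq_mul.mp ?_),
      mem_centralizer_singleton_iff.mpr (mul_inv_eq_iff_eq_mul.mp ?_)⟩, by rw [← h3, hg]⟩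
    · rw [hp, ← hg c012, h1]
    · rw [hq, ← hg c013, h2]
  have hfree : ∀ y ∈ Y, y * r * y⁻¹ = r → y = 1 := fun y hy e => by
    have hp' := hYp y hy
    have hq' := hYq y hy
    have hr' : Commute y r := mul_inv_eq_iff_eq_mul.mp e
    refine eq_one_of_commute h φ ?_ ?_
    · rw [show φ.1 five0 = p * p * q * r by simp only [five0, map_mul]; rfl]
      exact ((hp'.mul_right hp').mul_right hq').mul_right hr'
    · rw [show φ.1 t0123 = p * q * q * p by
        rw [hp, hq, ← map_mul, ← map_mul, ← map_mul]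
        exact congrArg φ.1 (by decide +kernel)]
      exact ((hp'.mul_right hq').mul_right hq').mul_right hp'
  set T : Finset G := (Finset.univ : Finset Y).image fun y : Y => (y : G) * r * (y : G)⁻¹ with hTdef
  have hT3 : T.card = 3 := by
    rw [hTdef, Finset.card_image_of_injective, Finset.card_univ, ← Nat.card_eq_fintype_card, hY]
    intro a b hab
    have hab' : (a : G) * r * (a : G)⁻¹ = (b : G) * r * (b : G)⁻¹ := hab
    have := hfree ((b : G)⁻¹ * a) (mul_mem (inv_mem b.2) a.2) (by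
      calc (b : G)⁻¹ * a * r * ((b : G)⁻¹ * a)⁻¹ = (b : G)⁻¹ * ((a : G) * r * (a : G)⁻¹) * b := by group
        _ = r := by rw [hab']; group)
    exact Subtype.ext (inv_mul_eq_one.mp this).symm
  -- coordinates in the centraliser of `p`
  let Θ : Fin 3 × V × Y → C := fun x => ⟨p ^ (x.1 : ℕ) * (x.2.1 : G) * (x.2.2 : G),
    mul_mem (mul_mem (pow_mem (mem_centralizer_self p) _) (hVC x.2.1.2)) x.2.2.2.1⟩
  have hΘ : Function.Injective Θ := by
    rintro ⟨i, v, y⟩ ⟨j, v', y'⟩ e
    have e' : p ^ (i : ℕ) * (v : G) * (y : G) = p ^ (j : ℕ) * (v' : G) * (y' : G) :=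
      congrArg Subtype.val e
    set k : ℤ := (i : ℤ) - (j : ℤ) with hk
    have hz : (v' : G)⁻¹ * v * p ^ k = (y' : G) * (y : G)⁻¹ := by
      have c1 : Commute ((v' : G)⁻¹ * v) (p ^ k) :=
        ((hVp _ v'.2).inv_left.mul_left (hVp _ v.2)).zpow_right k
      have c2 : Commute ((v' : G)⁻¹) ((p ^ (j : ℕ))⁻¹) := ((hVp _ v'.2).pow_right _).inv_left.inv_right
      calc (v' : G)⁻¹ * v * p ^ k = p ^ k * ((v' : G)⁻¹ * v) := c1.eq
        _ = (p ^ (j : ℕ))⁻¹ * (p ^ (i : ℕ) * ((v' : G)⁻¹ * v)) := by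
          rw [hk, ← mul_assoc ((p ^ (j : ℕ))⁻¹), ← zpow_natCast p i, ← zpow_natCast p j, ← zpow_neg,
            ← zpow_add, neg_add_eq_sub]
        _ = (v' : G)⁻¹ * (p ^ (j : ℕ))⁻¹ * (p ^ (i : ℕ) * v * (y : G)) * (y : G)⁻¹ := by
          rw [c2.eq, ← mul_assoc (p ^ (i : ℕ)), ((hVp _ v'.2).inv_left.pow_right (i : ℕ)).eq.symm]
          group
        _ = (y' : G) * (y : G)⁻¹ := by rw [e']; group
    have hzY : (y' : G) * (y : G)⁻¹ ∈ Y := mul_mem y'.2 (inv_mem y.2)
    set u := (v' : G)⁻¹ * v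
    have huV : u ∈ V := mul_mem (inv_mem v'.2) v.2
    have hp3 : p ^ (3 : ℤ) = 1 := by
      rw [show (3 : ℤ) = ((3 : ℕ) : ℤ) from rfl, zpow_natCast, ← hpA.1, pow_orderOf_eq_one]
    have hu1 : u = 1 := by
      have h3 := hY3 _ hzY
      rw [← hz, ((hVp u huV).zpow_right k).mul_pow, pow_succ u, pow_two u, hexp u huV, one_mul,
        ← zpow_natCast (p ^ k) 3, ← zpow_mul, mul_comm k, zpow_mul] at h3
      norm_num [hp3] at h3
      exact h3
    have hk3 : (3 : ℤ) ∣ k := by
      by_contra hnd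
      refine hpY ?_
      have hpk : p ^ k ∈ Y := by rw [hu1, one_mul] at hz; rw [hz]; exact hzY
      obtain ⟨m, hm⟩ : (3 : ℤ) ∣ k * k - 1 := by
        have : k % 3 = 1 ∨ k % 3 = 2 := by omega
        refine Int.dvd_of_emod_eq_zero ?_
        rw [Int.sub_emod, Int.mul_emod]
        rcases this with e | e <;> rw [e] <;> norm_num
      have := zpow_mem hpk k
      rw [← zpow_mul, show k * k = 3 * m + 1 by omega, zpow_add, zpow_mul, hp3, one_zpow, one_mul,
        zpow_one] at this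
      exact this
    have hij : i = j := Fin.ext (by
      have := i.2
      have := j.2
      omega)
    subst hij
    have hvv : v = v' := Subtype.ext (inv_mul_eq_one.mp hu1).symm
    subst hvv
    exact Prod.ext rfl (Prod.ext rfl (Subtype.ext (mul_left_cancel e')))
  have hΘs : Function.Surjective Θ := ((Nat.bijective_iff_injective_and_card Θ).mpr ⟨hΘ, by
    rw [Nat.card_prod, Nat.card_prod, Nat.card_fin, hV4, hY]; exact hC.symm⟩).2
  set O : Finset G := (Finset.univ : Finset V).image fun v : V => (v : G) * q * (v : G)⁻¹ with hOdef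
  have hO4 : O.card = 4 := by
    rw [hOdef, Finset.card_image_of_injective, Finset.card_univ, ← Nat.card_eq_fintype_card, hV4]
    intro a b hab
    have hab' : (a : G) * q * (a : G)⁻¹ = (b : G) * q * (b : G)⁻¹ := hab
    have hm : (b : G)⁻¹ * a ∈ Y := ⟨hVC (mul_mem (inv_mem b.2) a.2),
      mem_centralizer_singleton_iff.mpr (by
        calc (b : G)⁻¹ * a * q = (b : G)⁻¹ * ((a : G) * q * (a : G)⁻¹) * a := by group
          _ = q * ((b : G)⁻¹ * a) := by rw [hab']; group)⟩
    exact Subtype.ext (inv_mul_eq_one.mp (hVY _ (mul_mem (inv_mem b.2) a.2) hm)).symm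
  have hqO : q ∈ O := Finset.mem_image.mpr ⟨1, Finset.mem_univ _, by simp⟩
  have hpO : p ∉ O := fun e => by
    obtain ⟨v, -, hv⟩ := Finset.mem_image.mp e
    have e2 : q = p := by
      calc q = (v : G)⁻¹ * ((v : G) * q * (v : G)⁻¹) * v := by group
        _ = p := by rw [hv, mul_assoc, ← (hVp _ v.2).eq, inv_mul_cancel_left]
    exact absurd (φ.injective e2) (by decide +kernel)
  -- all partners lie in the orbit of the four group
  have hin : ∀ b, Tri p q b → b ∈ O := by
    intro b hb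
    obtain ⟨φ', h1, h2, h3⟩ := hb.swap23
    obtain ⟨g, hg⟩ := exists_conj h φ φ'
    have egp : Commute g p := mul_inv_eq_iff_eq_mul.mp (by rw [hp, ← hg c012, h1])
    have egq : g * q * g⁻¹ = b := by rw [hq, ← hg c013, h2]
    have egr : g * r * g⁻¹ = q := by rw [hr, ← hg c014, h3]
    obtain ⟨y, hy, hby⟩ := hchar b hb
    set z := g⁻¹ * y * g⁻¹ with hz
    have hzY : z ∈ Y := by
      refine ⟨mem_centralizer_singleton_iff.mpr
        ((egp.inv_left.mul_left (hYp y hy)).mul_left egp.inv_left).eq,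
        mem_centralizer_singleton_iff.mpr (mul_inv_eq_iff_eq_mul.mp ?_)⟩
      calc z * q * z⁻¹ = g⁻¹ * (y * (g⁻¹ * q * g) * y⁻¹) * g := by rw [hz]; group
        _ = g⁻¹ * (y * r * y⁻¹) * g := by rw [← egr]; group
        _ = q := by rw [← hby, ← egq]; group
    obtain ⟨⟨i, v, y₁⟩, hx⟩ := hΘs ⟨g, mem_centralizer_singleton_iff.mpr egp.eq⟩
    have hg' : p ^ (i : ℕ) * (v : G) * (y₁ : G) = g := congrArg Subtype.val hx
    have hY' : (y₁ : G) * z ∈ Y := mul_mem y₁.2 hzY
    set v₁ := (y₁ : G) * z * v * ((y₁ : G) * z)⁻¹ with hv₁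
    have hv₁V : v₁ ∈ V := hVconj _ (hYp _ hY') v v.2
    have hprod : p ^ (2 * (i : ℕ)) * ((v : G) * v₁) * ((y₁ : G) * z * y₁) = y := by
      have c1 : Commute ((v : G) * ((y₁ : G) * z)) (p ^ (i : ℕ)) :=
        ((hVp _ v.2).mul_left (hYp _ hY')).pow_right _
      calc p ^ (2 * (i : ℕ)) * ((v : G) * v₁) * ((y₁ : G) * z * y₁)
          = p ^ (i : ℕ) * (p ^ (i : ℕ) * ((v : G) * ((y₁ : G) * z))) * v * y₁ := by
            rw [hv₁, two_mul, pow_add]; group
        _ = p ^ (i : ℕ) * ((v : G) * ((y₁ : G) * z) * p ^ (i : ℕ)) * v * y₁ := by rw [c1.eq]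
        _ = (p ^ (i : ℕ) * v * y₁) * z * (p ^ (i : ℕ) * v * y₁) := by group
        _ = y := by rw [hg', hz]; group
    have hmod : p ^ (2 * (i : ℕ)) = p ^ ((⟨(2 * (i : ℕ)) % 3, Nat.mod_lt _ (by norm_num)⟩ : Fin 3) : ℕ) := by
      rw [← pow_mod_orderOf p (2 * (i : ℕ)), hpA.1]
    have h0 : Θ (⟨(2 * (i : ℕ)) % 3, Nat.mod_lt _ (by norm_num)⟩, ⟨(v : G) * v₁, mul_mem v.2 hv₁V⟩,
        ⟨(y₁ : G) * z * y₁, mul_mem hY' y₁.2⟩) = Θ (0, 1, ⟨y, hy⟩) := by
      apply Subtype.ext
      show p ^ ((⟨(2 * (i : ℕ)) % 3, Nat.mod_lt _ (by norm_num)⟩ : Fin 3) : ℕ) * ((v : G) * v₁) *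
        ((y₁ : G) * z * y₁) = p ^ ((0 : Fin 3) : ℕ) * ((1 : V) : G) * y
      rw [← hmod, hprod]
      simp
    have hi : (i : ℕ) = 0 := by
      have h1 : (2 * (i : ℕ)) % 3 = 0 := congrArg (fun x : Fin 3 × V × Y => (x.1 : ℕ)) (hΘ h0)
      have := i.2
      omega
    rw [hi, pow_zero, one_mul] at hg'
    refine Finset.mem_image.mpr ⟨v, Finset.mem_univ _, ?_⟩
    rw [← egq, ← hg']
    calc (v : G) * q * (v : G)⁻¹ = (v : G) * ((y₁ : G) * q * (y₁ : G)⁻¹) * (v : G)⁻¹ := by
          rw [(hYq _ y₁.2).eq, mul_inv_cancel_right]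
      _ = _ := by group
  have hTO : T = O.erase q := by
    refine Finset.eq_of_subset_of_card_le (fun b hb => ?_) (by rw [Finset.card_erase_of_mem hqO, hO4, hT3])
    obtain ⟨y, -, rfl⟩ := Finset.mem_image.mp hb
    have hTy : Tri p q ((y : G) * r * (y : G)⁻¹) := by
      have := (show Tri p q r from ⟨φ, rfl, rfl, rfl⟩).conj (y : G)
      rwa [(hYp _ y.2).eq, mul_inv_cancel_right, (hYq _ y.2).eq, mul_inv_cancel_right] at this
    refine Finset.mem_erase.mpr ⟨fun e => ?_, hin _ hTy⟩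
    obtain ⟨φ', -, h2, h3⟩ := hTy
    exact absurd (φ'.injective (h2.trans (e.symm.trans h3.symm))) (by decide +kernel)
  have hfirst : ∀ b ∈ O, b ≠ q → Tri p q b := by
    intro b hb hne
    have hbT : b ∈ T := hTO ▸ Finset.mem_erase.mpr ⟨hne, hb⟩
    obtain ⟨y, -, rfl⟩ := Finset.mem_image.mp hbT
    have := (show Tri p q r from ⟨φ, rfl, rfl, rfl⟩).conj (y : G)
    rwa [(hYp _ y.2).eq, mul_inv_cancel_right, (hYq _ y.2).eq, mul_inv_cancel_right] at this
  refine ⟨O, hO4, hqO, hpO, fun a ha b hb hab => ?_, hin⟩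
  obtain ⟨v, -, rfl⟩ := Finset.mem_image.mp ha
  obtain ⟨v', -, rfl⟩ := Finset.mem_image.mp hb
  have h' : ((v⁻¹ * v' : V) : G) * q * ((v⁻¹ * v' : V) : G)⁻¹ ∈ O :=
    Finset.mem_image.mpr ⟨v⁻¹ * v', Finset.mem_univ _, rfl⟩
  have hne : ((v⁻¹ * v' : V) : G) * q * ((v⁻¹ * v' : V) : G)⁻¹ ≠ q := fun e => hab (by
    rw [Subgroup.coe_mul, Subgroup.coe_inv] at e
    calc (v : G) * q * (v : G)⁻¹ = (v : G) * ((v : G)⁻¹ * v' * q * ((v : G)⁻¹ * v')⁻¹) * (v : G)⁻¹ := by rw [e]
      _ = _ := by group)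
  have := (hfirst _ h' hne).conj (v : G)
  rw [(hVp _ v.2).eq, mul_inv_cancel_right] at this
  rwa [show (v : G) * (((v⁻¹ * v' : V) : G) * q * ((v⁻¹ * v' : V) : G)⁻¹) * (v : G)⁻¹ =
    (v' : G) * q * (v' : G)⁻¹ by rw [Subgroup.coe_mul, Subgroup.coe_inv]; group] at this

/-- five three-cycles through a common pair -/
theorem exists_five (h : Nat.card G = 2520) :
    ∃ y : Fin 5 → G, ∀ a b c, a ≠ b → a ≠ c → b ≠ c → Tri (y a) (y b) (y c) := by
  classical
  obtain ⟨φ⟩ := exists_emb h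
  set p := φ.1 c012
  obtain ⟨O, hO4, -, hpO, hall, -⟩ := exists_orbit h (⟨φ, rfl, rfl, rfl⟩ : Tri p (φ.1 c013) (φ.1 c014))
  set F := insert p O
  have hF : F.card = 5 := by rw [Finset.card_insert_of_notMem hpO, hO4]
  let e := F.equivFinOfCardEq hF
  refine ⟨fun i => (e.symm i : G), fun a b c hab hac hbc => ?_⟩
  have hinj : ∀ {i j}, i ≠ j → (e.symm i : G) ≠ (e.symm j : G) := fun hij e' =>
    hij (e.symm.injective (Subtype.ext e'))
  suffices hmain : ∀ x ∈ F, ∀ y ∈ F, ∀ z ∈ F, x ≠ y → x ≠ z → y ≠ z → Tri x y z from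
    hmain _ (e.symm a).2 _ (e.symm b).2 _ (e.symm c).2 (hinj hab) (hinj hac) (hinj hbc)
  intro x hx y hy z hz hxy hxz hyz
  rcases Finset.mem_insert.mp hx with rfl | hxO
  · exact hall y ((Finset.mem_insert.mp hy).resolve_left hxy.symm)
      z ((Finset.mem_insert.mp hz).resolve_left hxz.symm) hyz
  obtain ⟨b, hb⟩ : (O.erase x).Nonempty :=
    Finset.card_pos.mp (by rw [Finset.card_erase_of_mem hxO, hO4]; norm_num)
  obtain ⟨hbx, hbO⟩ := Finset.mem_erase.mp hb
  have hT := (hall x hxO b hbO hbx.symm).swap12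
  obtain ⟨O', -, hpO', -, hall', hin'⟩ := exists_orbit h hT
  have hsub : ∀ w ∈ F, w ≠ x → w ∈ O' := fun w hw hwx => by
    rcases Finset.mem_insert.mp hw with rfl | hwO
    · exact hpO'
    · exact hin' w (hall x hxO w hwO hwx.symm).swap12
  exact hall' y (hsub y hy hxy.symm) z (hsub z hz hxz.symm) hyz

/-- the recognition -/
theorem nonempty_iso (h : Nat.card G = 2520) : Nonempty (G ≃* alternatingGroup (Fin 7)) := by
  classical
  obtain ⟨y, hy⟩ := exists_five h
  obtain ⟨e⟩ := Cfsg.Agent.S3335.result 7 (by norm_num)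
  let X : Fin (7 - 2) → G := ![y 0, pairInv (y 0) (y 1), pairInv (y 1) (y 2), pairInv (y 2) (y 3),
    pairInv (y 3) (y 4)]
  have R := fun a b c h1 h2 h3 => (hy a b c h1 h2 h3).rels
  have far := fun a b c d h1 h2 h3 h4 h5 h6 h7 h8 h9 => pairInv_far (hy a b c h1 h2 h3)
    (hy a b d h4 h5 h6) (hy c d a h7 h8 h9)
  have hr1 : ∀ i : Fin 5, i.val = 0 → X i ^ 3 = 1 := fun i hi => by
    obtain rfl : i = 0 := Fin.ext hi
    exact (R 0 1 2 (by decide) (by decide) (by decide)).1
  have hr2 : ∀ i : Fin 5, 1 ≤ i.val → X i ^ 2 = 1 := by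
    intro i hi
    fin_cases i
    · simp at hi
    · exact (R 0 1 2 (by decide) (by decide) (by decide)).2.1
    · exact (R 1 2 3 (by decide) (by decide) (by decide)).2.1
    · exact (R 2 3 4 (by decide) (by decide) (by decide)).2.1
    · exact (R 3 4 0 (by decide) (by decide) (by decide)).2.1
  have hr3 : ∀ i j : Fin 5, j.val = i.val + 1 → (X i * X j) ^ 3 = 1 := by
    intro i j hij
    fin_cases i <;> fin_cases j <;> first
      | (exfalso; revert hij; decide)
      | exact (R 0 1 2 (by decide) (by decide) (by decide)).2.2.1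
      | exact (R 0 1 2 (by decide) (by decide) (by decide)).2.2.2.2.1
      | exact (R 1 2 3 (by decide) (by decide) (by decide)).2.2.2.2.1
      | exact (R 2 3 4 (by decide) (by decide) (by decide)).2.2.2.2.1
  have hr4 : ∀ i j : Fin 5, i.val + 1 < j.val → (X i * X j) ^ 2 = 1 := by
    intro i j hij
    fin_cases i <;> fin_cases j <;> first
      | (exfalso; revert hij; decide)
      | exact (R 0 1 2 (by decide) (by decide) (by decide)).2.2.2.1
      | exact (R 0 2 3 (by decide) (by decide) (by decide)).2.2.2.1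
      | exact (R 0 3 4 (by decide) (by decide) (by decide)).2.2.2.1
      | exact far 0 1 2 3 (by decide) (by decide) (by decide) (by decide) (by decide) (by decide)
          (by decide) (by decide) (by decide)
      | exact far 0 1 3 4 (by decide) (by decide) (by decide) (by decide) (by decide) (by decide)
          (by decide) (by decide) (by decide)
      | exact far 1 2 3 4 (by decide) (by decide) (by decide) (by decide) (by decide) (by decide)
          (by decide) (by decide) (by decide)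
  set rels := (({g : FreeGroup (Fin (7 - 2)) | ∃ i : Fin (7 - 2), i.val = 0 ∧ g = FreeGroup.of i ^ 3} ∪
       {g | ∃ i : Fin (7 - 2), 1 ≤ i.val ∧ g = FreeGroup.of i ^ 2} ∪
       {g | ∃ i j : Fin (7 - 2), j.val = i.val + 1 ∧ g = (FreeGroup.of i * FreeGroup.of j) ^ 3} ∪
       {g | ∃ i j : Fin (7 - 2), i.val + 1 < j.val ∧ g = (FreeGroup.of i * FreeGroup.of j) ^ 2}))
  have hrels : ∀ g ∈ rels, FreeGroup.lift X g = 1 := by
    intro g hg
    rcases hg with ((hg | hg) | hg) | hg
    · obtain ⟨i, hi, rfl⟩ := hg; simp only [map_pow, FreeGroup.lift_apply_of]; exact hr1 i hi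
    · obtain ⟨i, hi, rfl⟩ := hg; simp only [map_pow, FreeGroup.lift_apply_of]; exact hr2 i hi
    · obtain ⟨i, j, hij, rfl⟩ := hg
      simp only [map_pow, map_mul, FreeGroup.lift_apply_of]; exact hr3 i j hij
    · obtain ⟨i, j, hij, rfl⟩ := hg
      simp only [map_pow, map_mul, FreeGroup.lift_apply_of]; exact hr4 i j hij
  let f : alternatingGroup (Fin 7) →* G := (PresentedGroup.toGroup hrels).comp e.symm.toMonoidHom
  have : IsSimpleGroup (alternatingGroup (Fin 7)) := alternatingGroup.isSimpleGroup (by simp)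
  have hinj : Function.Injective f := by
    rw [← MonoidHom.ker_eq_bot_iff]
    refine f.normal_ker.eq_bot_or_eq_top.resolve_right fun e' => ?_
    have h1 : f (e (PresentedGroup.of (⟨0, by norm_num⟩ : Fin (7 - 2)))) = 1 :=
      MonoidHom.mem_ker.mp (e' ▸ mem_top _)
    simp only [f, MonoidHom.comp_apply, MulEquiv.coe_toMonoidHom, MulEquiv.symm_apply_apply,
      PresentedGroup.toGroup.of] at h1
    obtain ⟨φ, hφ, -, -⟩ := hy 0 1 2 (by decide) (by decide) (by decide)
    have h3 := φ.2.1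
    rw [hφ, show y 0 = 1 from h1, orderOf_one] at h3
    norm_num at h3
  have hcard : Nat.card (alternatingGroup (Fin 7)) = Nat.card G := by
    have h2 := two_mul_card_alternatingGroup (α := Fin 7)
    rw [Fintype.card_perm, Fintype.card_fin, ← Nat.card_eq_fintype_card] at h2
    have : Nat.factorial 7 = 5040 := by decide
    omega
  exact ⟨(MulEquiv.ofBijective f ((Nat.bijective_iff_injective_and_card _).mpr ⟨hinj, hcard⟩)).symm⟩

end Cfsg.Agent.SmallOrders.S2520
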